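import Groth.Agent.Gor18.Dim
import Groth.Agent.Ega11.RegLocal
import Mathlib.RingTheory.SimpleModule.InjectiveProjective

/-!
# Regular local rings are Gorenstein
-/

set_option autoImplicit false
set_option linter.unusedSectionVars false

universe u

open IsLocalRing

namespace Groth.Agent.Gor18

theorem regular_gor_aux (n : ℕ) : ∀ (A : Type u) [CommRing A] [IsRegularLocalRing A],
    ringKrullDim A = n → LocCoh.IsGorensteinLocalRing A := by
  induction n with
  | zero =>
    intro A _ _ hdim
    have h1 : ((maximalIdeal A).spanFinrank : WithBot ℕ∞) = ringKrullDim A :=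
      IsRegularLocalRing.spanFinrank_maximalIdeal
    rw [hdim, Nat.cast_zero] at h1
    have h2 : (maximalIdeal A).spanFinrank = 0 := by exact_mod_cast h1
    have h3 : maximalIdeal A = ⊥ :=
      (Submodule.spanFinrank_eq_zero_iff_eq_bot (IsNoetherian.noetherian _)).1 h2
    have : IsSemisimpleRing A := by
      have hf : IsField A := IsLocalRing.isField_iff_maximalIdeal_eq.2 h3
      let _ := hf.toField
      infer_instance
    exact gor_of_injective (Module.injective_of_isSemisimpleRing A A)
  | succ n ih =>
    intro A _ _ hdim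
    have hd : IsDomain A := Ega11.RegLocal.isDomain A
    obtain ⟨x, hx, hx2⟩ : ∃ x ∈ maximalIdeal A, x ∉ maximalIdeal A ^ 2 := by
      by_contra h
      push Not at h
      have hbot : maximalIdeal A = ⊥ := by
        refine Submodule.eq_bot_of_le_smul_of_le_jacobson_bot (maximalIdeal A) _
          (IsNoetherian.noetherian _) ?_ (maximalIdeal_le_jacobson _)
        rwa [smul_eq_mul, ← sq]
      have hf : IsField A := IsLocalRing.isField_iff_maximalIdeal_eq.2 hbot
      have h1 : ringKrullDim A = 0 := ringKrullDim_eq_zero_of_isField hf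
      rw [hdim, Nat.cast_succ] at h1
      norm_cast at h1
    have hx0 : x ≠ 0 := fun h => hx2 (h ▸ zero_mem _)
    have hreg : IsSMulRegular A x := fun a b hab => mul_left_cancel₀ hx0 hab
    obtain ⟨hR, hdimR⟩ := Ega11.RegLocal.regular_quotient hx hx2
    rw [hdim, Nat.cast_succ] at hdimR
    exact (gor_quotient_iff hx hreg).2
      (ih _ (exists_regular_sequence_of_gor.ringKrullDim_add_one_cancel hdimR))

theorem regular_gor (A : Type u) [CommRing A] [IsRegularLocalRing A] :
    LocCoh.IsGorensteinLocalRing A :=
  have ⟨n, hn⟩ := gor_cm.exists_ringKrullDim_eq_nat A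
  regular_gor_aux n A hn

end Groth.Agent.Gor18
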