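import Groth.Agent.Koszul19.BaseChange
import Mathlib.RingTheory.Flat.Basic
import Mathlib.RingTheory.TensorProduct.Free

/-!
# Koszul-regular sequences with flat quotient stay Koszul regular after change of base
-/

set_option autoImplicit false
set_option linter.unusedSectionVars false

universe u

open TensorProduct Groth.Agent.Koszul19

namespace Groth.Agent.Gor18

variable {A C : Type u} [CommRing A] [CommRing C] [Algebra A C]

/-- a `C`-module is flat over `A` -/
def AFlat (A C : Type u) [CommRing A] [CommRing C] [Algebra A C] (M : Type u) [AddCommGroup M] [Module C M] :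
    Prop :=
  ∀ ⦃N₁ N₂ : Type u⦄ [AddCommGroup N₁] [Module A N₁] [AddCommGroup N₂] [Module A N₂]
    (f : N₁ →ₗ[A] N₂), Function.Injective f → Function.Injective ((f.baseChange C).lTensor M)

variable {M₁ M₂ M₃ : Type u} [AddCommGroup M₁] [Module C M₁] [AddCommGroup M₂] [Module C M₂]
  [AddCommGroup M₃] [Module C M₃]

theorem aflat_of_flat [Module.Flat A C] (M : Type u) [AddCommGroup M] [Module C M]
    [Module.Flat C M] : AFlat A C M := fun _ _ _ _ _ _ f hf =>
  Module.Flat.lTensor_preserves_injective_linearMap (M := M) _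
    (Module.Flat.lTensor_preserves_injective_linearMap (M := C) f hf)

theorem aflat_of_flat_base (M : Type u) [AddCommGroup M] [Module C M] [Module A M]
    [IsScalarTower A C M] [Module.Flat A M] : AFlat A C M := by
  intro N₁ N₂ _ _ _ _ f hf
  let e := fun (N : Type u) [AddCommGroup N] [Module A N] =>
    AlgebraTensorModule.cancelBaseChange A C C M N
  have h : ∀ x, e N₂ ((f.baseChange C).lTensor M x) = f.lTensor M (e N₁ x) := by
    intro x
    induction x with
    | zero => simp
    | add x y hx hy => simp only [map_add, hx, hy]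
    | tmul m t =>
      induction t with
      | zero => simp
      | add x y hx hy => simp only [TensorProduct.tmul_add, map_add, hx, hy]
      | tmul c n => simp [e]
  intro x y hxy
  apply (e N₁).injective
  apply Module.Flat.lTensor_preserves_injective_linearMap (M := M) f hf
  rw [← h, ← h, hxy]

theorem aflat_of_equiv (h : AFlat A C M₁) (e : M₁ ≃ₗ[C] M₂) : AFlat A C M₂ := by
  intro N₁ N₂ _ _ _ _ f hf x y hxy
  apply (e.symm.rTensor (C ⊗[A] N₁)).injective
  apply h f hf
  have : ∀ z, (f.baseChange C).lTensor M₁ (e.symm.rTensor (C ⊗[A] N₁) z) =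
      e.symm.rTensor (C ⊗[A] N₂) ((f.baseChange C).lTensor M₂ z) := by
    intro z
    induction z with
    | zero => simp
    | add x y hx hy => simp only [map_add, hx, hy]
    | tmul m t => simp
  rw [this, this, hxy]

/-- Tensoring a short exact sequence whose cokernel is flat over the base keeps it exact. -/
theorem rTensor_injective_of_aflat (f : M₁ →ₗ[C] M₂) (g : M₂ →ₗ[C] M₃)
    (hf : Function.Injective f) (hg : Function.Surjective g) (hfg : Function.Exact f g)
    (h3 : AFlat A C M₃) (N : Type u) [AddCommGroup N] [Module A N] :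
    Function.Injective (f.rTensor (C ⊗[A] N)) := by
  obtain ⟨F, _, _, _, π₀, hπ₀⟩ : ∃ (F : Type u) (_ : AddCommGroup F) (_ : Module A F)
      (_ : Module.Free A F) (π₀ : F →ₗ[A] N), Function.Surjective π₀ :=
    ⟨N →₀ A, inferInstance, inferInstance, inferInstance, Finsupp.linearCombination A id,
      fun n => ⟨Finsupp.single n 1, by simp⟩⟩
  let i := (LinearMap.ker π₀).subtype.baseChange C
  let π := π₀.baseChange C
  have hπ : Function.Surjective π := LinearMap.lTensor_surjective C hπ₀
  have hiπ : Function.Exact i π := by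
    show Function.Exact ((LinearMap.ker π₀).subtype.lTensor C) (π₀.lTensor C)
    have h : Function.Exact ((LinearMap.ker π₀).subtype) π₀ := by
      rw [LinearMap.exact_iff, Submodule.range_subtype]
    exact lTensor_exact C h hπ₀
  have hi3 : Function.Injective (i.lTensor M₃) := h3 _ Subtype.val_injective
  rw [injective_iff_map_eq_zero]
  intro x hx
  obtain ⟨y, rfl⟩ := LinearMap.lTensor_surjective M₁ hπ x
  have h1 : π.lTensor M₂ (f.rTensor _ y) = 0 := by
    rw [← LinearMap.comp_apply, LinearMap.lTensor_comp_rTensor, ← LinearMap.rTensor_comp_lTensor,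
      LinearMap.comp_apply, hx]
  obtain ⟨z, hz⟩ := (lTensor_exact M₂ hiπ hπ _).1 h1
  have hgf : g ∘ₗ f = 0 := LinearMap.ext fun a => hfg.apply_apply_eq_zero a
  have h2 : g.rTensor _ z = 0 := by
    apply hi3
    rw [map_zero, ← LinearMap.comp_apply, LinearMap.lTensor_comp_rTensor,
      ← LinearMap.rTensor_comp_lTensor, LinearMap.comp_apply, hz, ← LinearMap.rTensor_comp_apply,
      hgf, LinearMap.rTensor_zero, LinearMap.zero_apply]
  obtain ⟨w, rfl⟩ := (rTensor_exact _ hfg hg _).1 h2
  rw [← LinearMap.comp_apply, LinearMap.lTensor_comp_rTensor, ← LinearMap.rTensor_comp_lTensor,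
    LinearMap.comp_apply] at hz
  rw [← Module.Flat.rTensor_preserves_injective_linearMap (M := C ⊗[A] F) f hf hz]
  exact ((lTensor_exact M₁ hiπ hπ) _).2 ⟨w, rfl⟩

theorem aflat_kernel (f : M₁ →ₗ[C] M₂) (g : M₂ →ₗ[C] M₃)
    (hf : Function.Injective f) (hg : Function.Surjective g) (hfg : Function.Exact f g)
    (h2 : AFlat A C M₂) (h3 : AFlat A C M₃) : AFlat A C M₁ := by
  intro N₁ N₂ _ _ _ _ k hk x y hxy
  apply rTensor_injective_of_aflat f g hf hg hfg h3 N₁
  apply h2 k hk
  simp only [← LinearMap.comp_apply]
  simp only [LinearMap.lTensor_comp_rTensor, ← LinearMap.rTensor_comp_lTensor,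
    LinearMap.comp_apply, hxy]

/-- A complex of modules flat over the base, exact in negative degrees with flat cokernel in degree
zero, stays exact in negative degrees after tensoring. -/
theorem exact_rTensor_of_aflat (K : CochainComplex (ModuleCat.{u} C) ℤ)
    (hK : ∀ q, AFlat A C (K.X q)) (hex : ∀ q : ℤ, q < 0 → Ex K q)
    (h0 : AFlat A C ((K.X 0 : Type u) ⧸ LinearMap.range (dd K (-1) 0))) (m : ℕ) :
    ∀ (p q : ℤ), q = -(m : ℤ) → p + 1 = q →
      AFlat A C ((K.X q : Type u) ⧸ LinearMap.range (dd K p q)) ∧
      ∀ j : ℤ, q + 1 = j → q < 0 → ∀ (N : Type u) [AddCommGroup N] [Module A N],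
        Function.Exact ((dd K p q).rTensor (C ⊗[A] N)) ((dd K q j).rTensor (C ⊗[A] N)) := by
  induction m with
  | zero =>
    intro p q hq hp
    obtain rfl : q = 0 := by omega
    obtain rfl : p = -1 := by omega
    exact ⟨h0, fun j _ h => absurd h (by omega)⟩
  | succ m ih =>
    intro p q hq hp
    obtain ⟨h3, -⟩ := ih q (q + 1) (by omega) rfl
    have hker : LinearMap.ker (dd K q (q + 1)) ≤ LinearMap.range (dd K p q) := fun z hz =>
      hex q (by omega) p (q + 1) hp rfl z hz
    let f := (LinearMap.range (dd K p q)).liftQ (dd K q (q + 1))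
      (range_le_ker K p q (q + 1))
    have hf : Function.Injective f := LinearMap.ker_eq_bot.1
      (Submodule.ker_liftQ_eq_bot _ _ _ hker)
    have hfg : Function.Exact f (LinearMap.range (dd K q (q + 1))).mkQ := by
      rw [LinearMap.exact_iff, Submodule.ker_mkQ, Submodule.range_liftQ]
    refine ⟨aflat_kernel f _ hf (Submodule.mkQ_surjective _) hfg (hK (q + 1)) h3,
      fun j hj _ N _ _ => ?_⟩
    subst hj
    have hinj := rTensor_injective_of_aflat f _ hf (Submodule.mkQ_surjective _) hfg h3 N
    have h := rTensor_exact (C ⊗[A] N) (LinearMap.exact_map_mkQ_range (dd K p q))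
      (Submodule.mkQ_surjective _)
    intro z
    rw [← h z]
    have e : (dd K q (q + 1)).rTensor (C ⊗[A] N) z =
        f.rTensor _ ((LinearMap.range (dd K p q)).mkQ.rTensor _ z) := by
      rw [← LinearMap.rTensor_comp_apply, Submodule.liftQ_mkQ]
    rw [e]
    exact map_eq_zero_iff _ hinj

theorem free_koszul_X (l : List C) : ∀ q : ℤ, Module.Free C ((Koszul.koszul C l).X q) := by
  induction l with
  | nil =>
    intro q
    by_cases hq : q = 0
    · subst hq
      exact Module.Free.of_equiv (eps ([] : List C)).symm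
    · have := subsingleton_nil (A := C) hq
      infer_instance
  | cons f l ih =>
    intro q
    have := ih q
    have := ih (q + 1)
    exact Module.Free.of_equiv ((consData f l).e q (q + 1) rfl).symm

/-- Koszul regularity with flat quotient survives change of base `C → E ≅ C ⊗_A N`. -/
theorem kR_map_of_flat_quotient [Module.Flat A C] (l : List C) (hl : KR l)
    [Module.Flat A (C ⧸ Ideal.ofList l)] (N : Type u) [AddCommGroup N] [Module A N]
    (E : Type u) [CommRing E] [Algebra C E] (e : E ≃ₗ[C] C ⊗[A] N) :
    KR (l.map (algebraMap C E)) := by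
  have hK : ∀ q, AFlat A C ((Koszul.koszul C l).X q) := fun q => by
    have := free_koszul_X l q
    exact aflat_of_flat _
  have h0 : AFlat A C (((Koszul.koszul C l).X 0 : Type u) ⧸
      LinearMap.range (dd (Koszul.koszul C l) (-1) 0)) := by
    refine aflat_of_equiv (aflat_of_flat_base (C ⧸ Ideal.ofList l))
      (Submodule.Quotient.equiv _ _ (eps l) ?_).symm
    rw [← range_eps_d, LinearMap.range_comp]
  refine kR_of_neg _ fun q hq => ?_
  obtain ⟨-, h⟩ := exact_rTensor_of_aflat (Koszul.koszul C l) hK (fun r hr => hl r (by omega)) h0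
    (-q).toNat (q - 1) q (by omega) (by omega)
  refine ((bcKoszul l).exact_iff (q - 1) q (q + 1) (by omega) rfl).2 ?_
  let sw := fun r : ℤ => (TensorProduct.comm C ((Koszul.koszul C l).X r : Type u) (C ⊗[A] N)).trans
    (e.symm.rTensor ((Koszul.koszul C l).X r : Type u))
  refine (Function.Exact.iff_of_ladder_linearEquiv (e₁ := sw (q - 1)) (e₂ := sw q)
    (e₃ := sw (q + 1)) ?_ ?_).2 (h (q + 1) rfl hq N) <;>
  · refine TensorProduct.ext' fun a b => ?_
    simp [sw]

end Groth.Agent.Gor18
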