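import Groth.Agent.Gor18.LCI
import Groth.Agent.Gor18.KRFlat
import Mathlib.RingTheory.Localization.BaseChange
import Mathlib.RingTheory.TensorProduct.Quotient
import Mathlib.RingTheory.Flat.Stability

/-!
# Complete intersections over Gorenstein rings
-/

set_option autoImplicit false
set_option linter.unusedSectionVars false

universe u

open IsLocalRing RingTheory.Sequence TensorProduct Groth.Agent.Koszul19 Groth.Agent.LCI19

namespace Groth.Agent.Gor18

/-- The quotient of a Gorenstein ring by a locally Koszul-regular ideal is Gorenstein. -/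
theorem gorRing_quotient_of_krGen {A : Type u} [CommRing A] [LocCoh.IsGorensteinRing A]
    (I : Ideal A) (h : ∀ (p : Ideal A) [p.IsPrime], I ≤ p → KRGen (Localization.AtPrime p) I) :
    LocCoh.IsGorensteinRing (A ⧸ I) where
  isGorensteinLocalRing_localization q _ := by
    let p := q.comap (Ideal.Quotient.mk I)
    have hIp : I ≤ p := fun x hx => by
      show Ideal.Quotient.mk I x ∈ q
      rw [Ideal.Quotient.eq_zero_iff_mem.2 hx]
      exact zero_mem _
    let B := Localization.AtPrime p
    obtain ⟨l, hl, hkr, hI⟩ := h p hIp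
    have hm : ∀ y ∈ l.map (algebraMap A B), y ∈ maximalIdeal B := by
      intro y hy
      obtain ⟨x, hx, rfl⟩ := List.mem_map.1 hy
      exact (IsLocalization.AtPrime.to_map_mem_maximal_iff B p x).2 (hIp (hl x hx))
    have hwr := isWeaklyRegular_reverse_of_kR (A := B)
      (fun y hy => by rw [IsLocalRing.jacobson_eq_maximalIdeal _ bot_ne_top]; exact hm y hy) hkr
    have := isLocalization_atPrime_quotient p B I q rfl
    refine gor_congr ((IsLocalization.algEquiv q.primeCompl
      (B ⧸ I.map (algebraMap A B)) (Localization.AtPrime q)).toRingEquiv.symm.trans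
        (Ideal.quotEquivOfEq (hI.trans (ofList_perm (List.reverse_perm _).symm)))) |>.2 ?_
    exact (gor_quotient_ofList_iff _ B _ rfl (fun y hy => hm y (List.mem_reverse.1 hy)) hwr).1
      (LocCoh.IsGorensteinRing.isGorensteinLocalRing_localization p)

theorem krGen_atPrime_of_away {A : Type u} [CommRing A] {I p : Ideal A} [p.IsPrime] {g : A}
    (hg : g ∉ p) {B : Type u} [CommRing B] [Algebra A B] [IsLocalization.Away g B]
    (h : KRGen B I) : KRGen (Localization.AtPrime p) I :=
  h.of_isUnit (g := g) (IsLocalization.map_units (Localization.AtPrime p)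
    (⟨g, hg⟩ : p.primeCompl))

theorem gorRing_of_isLCI (A B : Type u) [CommRing A] [CommRing B] [Algebra A B]
    [LocCoh.IsGorensteinRing A] (h : LCI.IsLCI A B) : LocCoh.IsGorensteinRing B := by
  obtain ⟨-, n, f, hf, hk⟩ := h
  have := gorRing_mvPolynomial A n
  have hq : LocCoh.IsGorensteinRing (MvPolynomial (Fin n) A ⧸ RingHom.ker f.toRingHom) :=
    gorRing_quotient_of_krGen _ fun p _ hp => by
      obtain ⟨g, hg, hgen⟩ := (isKoszulRegularIdeal_iff _).1 hk ⟨p, inferInstance⟩ hp
      exact krGen_atPrime_of_away hg hgen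
  exact gorRing_of_ringEquiv (RingHom.quotientKerEquivOfSurjective (f := f.toRingHom) hf)

attribute [local instance] Algebra.TensorProduct.rightAlgebra in
theorem gorRing_quotient_map_of_flat (A k P : Type u) [CommRing A] [CommRing k] [Algebra A k]
    [CommRing P] [Algebra A P] [Module.Flat A P] (I : Ideal P) (hI : LCI.IsKoszulRegularIdeal I)
    [Module.Flat A (P ⧸ I)] [LocCoh.IsGorensteinRing (P ⊗[A] k)] :
    LocCoh.IsGorensteinRing ((P ⊗[A] k) ⧸ I.map (algebraMap P (P ⊗[A] k))) := by
  refine gorRing_quotient_of_krGen _ fun q _ hq => ?_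
  let p := q.comap (algebraMap P (P ⊗[A] k))
  have hIp : I ≤ p := Ideal.map_le_iff_le_comap.1 hq
  obtain ⟨g, hg, l, hl, hkr, hgen⟩ := (isKoszulRegularIdeal_iff I).1 hI ⟨p, inferInstance⟩ hIp
  let C := Localization.Away g
  let E := C ⊗[P] (P ⊗[A] k)
  have : IsLocalization.Away (algebraMap P (P ⊗[A] k) g) E :=
    IsLocalization.Away.tensorRight (R := P) (S := P ⊗[A] k) (A := C) g
  refine krGen_atPrime_of_away (g := algebraMap P (P ⊗[A] k) g) (B := E) hg ?_
  have : Module.Flat A C := Module.Flat.trans A P C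
  have : Module.Flat A (C ⧸ Ideal.ofList (l.map (algebraMap P C))) := by
    have e1 : C ⊗[P] (P ⧸ I) ≃ₐ[P] C ⧸ Ideal.ofList (l.map (algebraMap P C)) :=
      ((Algebra.TensorProduct.quotIdealMapEquivTensorQuot C I).restrictScalars P).symm.trans
        ((Ideal.quotientEquivAlgOfEq C hgen).restrictScalars P)
    have : Module.Flat (P ⧸ I) ((P ⧸ I) ⊗[P] C) := inferInstance
    have : Module.Flat A ((P ⧸ I) ⊗[P] C) := Module.Flat.trans A (P ⧸ I) _
    exact Module.Flat.of_linearEquiv
      (((Algebra.TensorProduct.comm P (P ⧸ I) C).trans e1).restrictScalars A).toLinearEquiv.symm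
  have key := kR_map_of_flat_quotient (l.map (algebraMap P C)) hkr k E
    (Algebra.TensorProduct.cancelBaseChange A P C C k).toLinearEquiv
  have hlist : (l.map (algebraMap P (P ⊗[A] k))).map (algebraMap (P ⊗[A] k) E) =
      (l.map (algebraMap P C)).map (algebraMap C E) := by
    rw [List.map_map, List.map_map]
    refine List.map_congr_left fun x _ => ?_
    simp only [Function.comp_apply]
    rw [← IsScalarTower.algebraMap_apply P C E, ← IsScalarTower.algebraMap_apply P (P ⊗[A] k) E]
  refine ⟨l.map (algebraMap P (P ⊗[A] k)), fun y hy => ?_, hlist ▸ key, ?_⟩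
  · obtain ⟨x, hx, rfl⟩ := List.mem_map.1 hy
    exact Ideal.mem_map_of_mem _ (hl x hx)
  · rw [hlist, Ideal.map_map, ← IsScalarTower.algebraMap_eq, IsScalarTower.algebraMap_eq P C E,
      ← Ideal.map_map, hgen, LCI19.map_ofList]

theorem gorRing_fibre_of_flat_isLCI (A B k : Type u) [CommRing A] [CommRing B] [Algebra A B]
    [Field k] [Algebra A k] [Module.Flat A B] (h : LCI.IsLCI A B) :
    LocCoh.IsGorensteinRing (B ⊗[A] k) := by
  obtain ⟨-, n, f, hf, hk⟩ := h
  let P := MvPolynomial (Fin n) A
  have := gorRing_of_pid k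
  have := gorRing_mvPolynomial k n
  have : LocCoh.IsGorensteinRing (P ⊗[A] k) := gorRing_of_ringEquiv (R := MvPolynomial (Fin n) k)
    ((MvPolynomial.algebraTensorAlgEquiv (σ := Fin n) A k).symm.toRingEquiv.trans
      (Algebra.TensorProduct.comm A k P).toRingEquiv)
  let e : (P ⧸ RingHom.ker f.toRingHom) ≃ₐ[A] B :=
    Ideal.quotientKerAlgEquivOfSurjective (f := f) hf
  have : Module.Flat A (P ⧸ RingHom.ker f.toRingHom) := Module.Flat.of_linearEquiv e.toLinearEquiv
  have h1 := gorRing_quotient_map_of_flat A k P (RingHom.ker f.toRingHom) hk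
  refine gorRing_of_ringEquiv (R := (P ⊗[A] k) ⧸ (RingHom.ker f.toRingHom).map
    (algebraMap P (P ⊗[A] k))) ?_
  exact ((Algebra.TensorProduct.quotIdealMapEquivTensorQuot (P ⊗[A] k)
      (RingHom.ker f.toRingHom)).toRingEquiv.trans
    (((Algebra.TensorProduct.comm P (P ⊗[A] k) (P ⧸ RingHom.ker f.toRingHom)).toRingEquiv).trans
      (Algebra.TensorProduct.cancelBaseChange A P P (P ⧸ RingHom.ker f.toRingHom) k).toRingEquiv)).trans
        (Algebra.TensorProduct.congr e AlgEquiv.refl).toRingEquiv

end Groth.Agent.Gor18
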