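import Groth.Agent.Gor18.ExtPattern

/-!
# Noetherian rings of finite self-injective dimension
-/

set_option autoImplicit false
set_option linter.unusedSectionVars false
set_option linter.overlappingInstances false

universe u

open CategoryTheory Abelian IsLocalRing

namespace Groth.Agent.Gor18

theorem dim_le_of_injDimLE {A : Type u} [CommRing A] [LocCoh.IsGorensteinLocalRing A] {n : ℕ}
    (h : HasInjectiveDimensionLE (ModuleCat.of A A) n) : ringKrullDim A ≤ n := by
  obtain ⟨d, hd⟩ := gor_cm.exists_ringKrullDim_eq_nat A
  rw [hd]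
  by_contra hlt
  have hlt' : n < d := by
    simpa using hlt
  exact (ext_pattern d A hd d).1 (HasInjectiveDimensionLT.subsingleton _ (n + 1) d hlt' _) rfl

theorem injDimLE_of_dim_le {A : Type u} [CommRing A] [LocCoh.IsGorensteinLocalRing A] {n : ℕ}
    (h : ringKrullDim A ≤ n) : HasInjectiveDimensionLE (ModuleCat.of A A) n := by
  obtain ⟨d, hd⟩ := gor_cm.exists_ringKrullDim_eq_nat A
  refine injDimLT_of_extVanishAbove fun i hi => (ext_pattern d A hd i).2 ?_
  have : d ≤ n := by simpa [hd] using h
  omega

theorem finite_injDim_self_iff (A : Type u) [CommRing A] [IsNoetherianRing A] :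
    (∃ n : ℕ, HasInjectiveDimensionLT (ModuleCat.of A A) n) ↔
      (LocCoh.IsGorensteinRing A ∧ ringKrullDim A < ⊤) := by
  constructor
  · rintro ⟨n, hn⟩
    have hn' : HasInjectiveDimensionLE (ModuleCat.of A A) n :=
      hasInjectiveDimensionLT_of_ge _ n (n + 1) n.le_succ
    have hG : ∀ (p : Ideal A) [p.IsPrime], LocCoh.IsGorensteinLocalRing (Localization.AtPrime p) :=
      fun p _ => { exists_hasInjectiveDimensionLT := ⟨n + 1, injDimLE_localization p.primeCompl hn'⟩ }
    refine ⟨{ isGorensteinLocalRing_localization := hG }, lt_of_le_of_lt (b := (n : WithBot ℕ∞)) ?_ ?_⟩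
    · refine (ringKrullDim_le_iff_isMaximal_height_le _).2 fun m hm => ?_
      have := hG m
      rw [← IsLocalization.AtPrime.ringKrullDim_eq_height m (Localization.AtPrime m)]
      exact dim_le_of_injDimLE (injDimLE_localization m.primeCompl hn')
    · rw [← WithBot.coe_natCast, ← WithBot.coe_top, WithBot.coe_lt_coe]
      exact ENat.natCast_lt_top n
  · rintro ⟨hG, hd⟩
    obtain ⟨d, hdd⟩ : ∃ d : ℕ, ringKrullDim A ≤ d := by
      induction hr : ringKrullDim A with
      | bot => exact ⟨0, bot_le⟩
      | coe a =>
        induction a with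
        | top => rw [hr] at hd; exact absurd hd (lt_irrefl _)
        | coe k => exact ⟨k, le_rfl⟩
    refine ⟨d + 1, (ModuleCat.hasInjectiveDimensionLE_iff_forall_maximalSpectrum d
      (ModuleCat.of A A)).2 fun m => ?_⟩
    have := m.isMaximal
    have := LocCoh.IsGorensteinRing.isGorensteinLocalRing_localization (A := A) m.asIdeal
    have := ModuleCat.localizedModule_isLocalizedModule (ModuleCat.of A A) m.asIdeal.primeCompl
    refine (ModuleCat.hasInjectiveDimensionLE_iff_of_linearEquiv
      (M := (ModuleCat.of A A).localizedModule m.asIdeal.primeCompl)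
      (N := ModuleCat.of (Localization.AtPrime m.asIdeal) (Localization.AtPrime m.asIdeal))
      (LinearEquiv.extendScalarsOfIsLocalization m.asIdeal.primeCompl _
        (IsLocalizedModule.linearEquiv m.asIdeal.primeCompl
          ((ModuleCat.of A A).localizedModuleMkLinearMap m.asIdeal.primeCompl)
          (Algebra.linearMap A (Localization.AtPrime m.asIdeal)))) d).2 (injDimLE_of_dim_le ?_)
    rw [IsLocalization.AtPrime.ringKrullDim_eq_height m.asIdeal (Localization.AtPrime m.asIdeal)]
    exact (ringKrullDim_le_iff_isMaximal_height_le _).1 hdd m.isMaximal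

end Groth.Agent.Gor18
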