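import Groth.Agent.Gor18.Flat
import Groth.Agent.Gor18.Regular
import Mathlib.RingTheory.LocalRing.ResidueField.Fiber
import Mathlib.RingTheory.Flat.Localization

/-!
# Gorenstein rings and fibres of flat maps
-/

set_option autoImplicit false
set_option linter.unusedSectionVars false

universe u

open IsLocalRing Algebra TensorProduct

namespace Groth.Agent.Gor18

variable {R S : Type u} [CommRing R] [CommRing S] [Algebra R S] [IsNoetherianRing R]
  [IsNoetherianRing S] [Module.Flat R S]

theorem gor_atPrime_iff_fibre (p : Ideal R) [p.IsPrime] (q : Ideal (p.Fiber S)) [q.IsPrime] :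
    LocCoh.IsGorensteinLocalRing
        (Localization.AtPrime (q.comap (includeRight : S →ₐ[R] p.Fiber S))) ↔
      (LocCoh.IsGorensteinLocalRing (Localization.AtPrime p) ∧
        LocCoh.IsGorensteinLocalRing (Localization.AtPrime q)) := by
  let r := q.comap (includeRight : S →ₐ[R] p.Fiber S)
  have : r.LiesOver p := ⟨by
    ext a
    rw [Ideal.over_def q p]
    simp only [r, Ideal.under_def, Ideal.mem_comap]
    rw [AlgHom.commutes]⟩
  let _ := Localization.AtPrime.algebraOfLiesOver p r
  have : IsLocalHom (algebraMap (Localization.AtPrime p) (Localization.AtPrime r)) := by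
    rw [Localization.AtPrime.IsLiesOverAlgebra.algebraMap_eq]; infer_instance
  have : Module.Flat R (Localization.AtPrime r) := Module.Flat.trans R S _
  have : Module.Flat (Localization.AtPrime p) (Localization.AtPrime r) :=
    (Module.flat_iff_of_isLocalization (Localization.AtPrime p) p.primeCompl _).2 inferInstance
  rw [gor_flat_iff (A := Localization.AtPrime p) (B := Localization.AtPrime r)]
  refine and_congr_right fun _ => gor_congr ((Ideal.quotEquivOfEq ?_).trans
    (Ideal.Fiber.localizationAlgEquivQuotient p q).symm.toRingEquiv)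
  rw [← Localization.AtPrime.map_eq_maximalIdeal, Ideal.map_map, ← IsScalarTower.algebraMap_eq]

theorem gor_atPrime_of_fibre (Q : Ideal S) [Q.IsPrime]
    (h : LocCoh.IsGorensteinLocalRing (Localization.AtPrime (Q.under R)))
    (hF : LocCoh.IsGorensteinRing ((Q.under R).Fiber S)) :
    LocCoh.IsGorensteinLocalRing (Localization.AtPrime Q) := by
  have : Q.LiesOver (Q.under R) := ⟨rfl⟩
  let q := PrimeSpectrum.primesOverOrderIsoFiber R S (Q.under R) ⟨Q, inferInstance, ⟨rfl⟩⟩
  have hq : Q = q.asIdeal.comap (includeRight : S →ₐ[R] (Q.under R).Fiber S) := by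
    rw [← PrimeSpectrum.coe_primesOverOrderIsoFiber_symm_apply, OrderIso.symm_apply_apply]
  have h2 := (gor_atPrime_iff_fibre (Q.under R) q.asIdeal).2
    ⟨h, LocCoh.IsGorensteinRing.isGorensteinLocalRing_localization q.asIdeal⟩
  have := gor_atPrime_congr (A := S) hq.symm h2
  exact this
where
  gor_atPrime_congr {A : Type u} [CommRing A] {P P' : Ideal A} [P.IsPrime] [P'.IsPrime]
      (e : P = P') (h : LocCoh.IsGorensteinLocalRing (Localization.AtPrime P)) :
      LocCoh.IsGorensteinLocalRing (Localization.AtPrime P') := by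
    subst e; exact h

/-- Gorenstein descends along flat maps, prime by prime. -/
theorem gor_base_of_flat (Q : Ideal S) [Q.IsPrime]
    (h : LocCoh.IsGorensteinLocalRing (Localization.AtPrime Q)) :
    LocCoh.IsGorensteinLocalRing (Localization.AtPrime (Q.under R)) := by
  let q := PrimeSpectrum.primesOverOrderIsoFiber R S (Q.under R) ⟨Q, inferInstance, ⟨rfl⟩⟩
  have hq : Q = q.asIdeal.comap (includeRight : S →ₐ[R] (Q.under R).Fiber S) := by
    rw [← PrimeSpectrum.coe_primesOverOrderIsoFiber_symm_apply, OrderIso.symm_apply_apply]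
  exact ((gor_atPrime_iff_fibre (Q.under R) q.asIdeal).1
    (gor_atPrime_of_fibre.gor_atPrime_congr hq h)).1

/-- A flat algebra over a Gorenstein ring with Gorenstein fibres is Gorenstein. -/
theorem gorRing_of_fibres [LocCoh.IsGorensteinRing R]
    (h : ∀ (p : Ideal R) [p.IsPrime], LocCoh.IsGorensteinRing (p.Fiber S)) :
    LocCoh.IsGorensteinRing S where
  isGorensteinLocalRing_localization Q _ := gor_atPrime_of_fibre Q
    (LocCoh.IsGorensteinRing.isGorensteinLocalRing_localization _) (h _)

end Groth.Agent.Gor18
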