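import Groth.Agent.Gor18.Poly
import Mathlib.FieldTheory.RatFunc.AsPolynomial
import Mathlib.FieldTheory.IntermediateField.Adjoin.Basic
import Mathlib.RingTheory.Localization.BaseChange
import Mathlib.RingTheory.TensorProduct.Maps

/-!
# Gorenstein rings and finitely generated field extensions
-/

set_option autoImplicit false
set_option linter.unusedSectionVars false

universe u

open Polynomial TensorProduct IntermediateField

namespace Groth.Agent.Gor18

theorem gorRing_tensor_fractionRing (L S : Type u) [Field L] [CommRing S] [Algebra L S]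
    [LocCoh.IsGorensteinRing S] :
    LocCoh.IsGorensteinRing (FractionRing L[X] ⊗[L] S) := by
  have := gorRing_polynomial S
  have : LocCoh.IsGorensteinRing (L[X] ⊗[L] S) := gorRing_of_ringEquiv
    ((polyEquivTensor L S).trans (Algebra.TensorProduct.comm L S L[X])).toRingEquiv
  have := gorRing_localization
    (Algebra.algebraMapSubmonoid (L[X] ⊗[L] S) (nonZeroDivisors L[X]))
    (Localization (Algebra.algebraMapSubmonoid (L[X] ⊗[L] S) (nonZeroDivisors L[X])))
  have : LocCoh.IsGorensteinRing (FractionRing L[X] ⊗[L[X]] (L[X] ⊗[L] S)) :=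
    gorRing_of_ringEquiv
      (Localization.tensorRightAlgEquiv (nonZeroDivisors L[X]) (L[X] ⊗[L] S)).toRingEquiv.symm
  exact gorRing_of_ringEquiv (Algebra.TensorProduct.cancelBaseChange L L[X] L[X]
    (FractionRing L[X]) S).toRingEquiv

theorem smulRegular_of_monic {S : Type u} [CommRing S] {f : S[X]} (hf : f.Monic) :
    IsSMulRegular S[X] f :=
  fun _ _ h => hf.isRegular.left h

/-- Gorenstein is stable under simple field extensions. -/
theorem gorRing_tensor_adjoin_simple (L E S : Type u) [Field L] [Field E] [Algebra L E]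
    [CommRing S] [Algebra L S] [LocCoh.IsGorensteinRing S] (x : E) :
    LocCoh.IsGorensteinRing (L⟮x⟯ ⊗[L] S) := by
  by_cases hx : IsIntegral L x
  · let f : L[X] := minpoly L x
    have := gorRing_polynomial S
    have hq := (minpoly.monic hx).map
      (Algebra.TensorProduct.includeRight : L →ₐ[L] S ⊗[L] L).toRingHom
    have := gorRing_of_ringEquiv (R := S) (Algebra.TensorProduct.rid L L S).toRingEquiv.symm
    have := gorRing_polynomial (S ⊗[L] L)
    have : LocCoh.IsGorensteinRing (AdjoinRoot (f.map
        (Algebra.TensorProduct.includeRight : L →ₐ[L] S ⊗[L] L).toRingHom)) :=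
      gorRing_quotient (smulRegular_of_monic hq)
    have : LocCoh.IsGorensteinRing (S ⊗[L] AdjoinRoot f) := gorRing_of_ringEquiv
      (AdjoinRoot.tensorAlgEquiv f _ rfl).toRingEquiv.symm
    exact gorRing_of_ringEquiv ((Algebra.TensorProduct.comm L S (AdjoinRoot f)).trans
      (Algebra.TensorProduct.congr (adjoinRootEquivAdjoin L hx) AlgEquiv.refl)).toRingEquiv
  · have ht : Transcendental L x := fun h => hx h.isIntegral
    have := gorRing_tensor_fractionRing L S
    let e : FractionRing L[X] ≃ₐ[L] L⟮x⟯ :=
      ((IsLocalization.algEquiv (nonZeroDivisors L[X]) (FractionRing L[X])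
        (RatFunc L)).restrictScalars L).trans (RatFunc.algEquivOfTranscendental x ht)
    exact gorRing_of_ringEquiv (Algebra.TensorProduct.congr e AlgEquiv.refl :
      FractionRing L[X] ⊗[L] S ≃ₐ[L] L⟮x⟯ ⊗[L] S).toRingEquiv

/-- Gorenstein is stable under finitely generated field extensions. -/
theorem gorRing_tensor_adjoin (k K R : Type u) [Field k] [Field K] [Algebra k K] [CommRing R]
    [Algebra k R] [LocCoh.IsGorensteinRing R] (s : Finset K) :
    LocCoh.IsGorensteinRing (adjoin k (s : Set K) ⊗[k] R) := by
  refine induction_on_adjoin_finset s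
    (fun M : IntermediateField k K => LocCoh.IsGorensteinRing (M ⊗[k] R)) ?_ ?_
  · exact gorRing_of_ringEquiv ((Algebra.TensorProduct.congr (botEquiv k K)
      (AlgEquiv.refl : R ≃ₐ[k] R)).trans (Algebra.TensorProduct.lid k R)).toRingEquiv.symm
  · intro M x _ hM
    have := gorRing_tensor_adjoin_simple M K (M ⊗[k] R) x
    exact gorRing_of_ringEquiv (Algebra.TensorProduct.cancelBaseChange k M M M⟮x⟯ R).toRingEquiv

theorem gorRing_tensor_fg (k K R : Type u) [Field k] [Field K] [Algebra k K]
    (hK : ∃ s : Finset K, adjoin k (s : Set K) = ⊤) [CommRing R] [Algebra k R]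
    [LocCoh.IsGorensteinRing R] : LocCoh.IsGorensteinRing (K ⊗[k] R) := by
  obtain ⟨s, hs⟩ := hK
  have := gorRing_tensor_adjoin k K R s
  exact gorRing_of_ringEquiv (Algebra.TensorProduct.congr
    ((IntermediateField.equivOfEq hs).trans topEquiv) (AlgEquiv.refl : R ≃ₐ[k] R)).toRingEquiv

end Groth.Agent.Gor18
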