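import Groth.Agent.Gor18.Dim
import Mathlib.RingTheory.LocalProperties.InjectiveDimension
import Mathlib.Algebra.Category.ModuleCat.InjectiveDimension
import Mathlib.RingTheory.Localization.LocalizationLocalization

/-!
# Gorenstein rings: transport and localization
-/

set_option autoImplicit false
set_option linter.unusedSectionVars false

universe u

open CategoryTheory IsLocalRing

namespace Groth.Agent.Gor18

attribute [local instance] RingHomInvPair.of_ringEquiv

theorem injDimLE_self_of_ringEquiv {R R' : Type u} [CommRing R] [CommRing R'] (e : R ≃+* R')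
    {n : ℕ} (h : HasInjectiveDimensionLE (ModuleCat.of R R) n) :
    HasInjectiveDimensionLE (ModuleCat.of R' R') n := by
  let e' : R ≃ₛₗ[RingHomClass.toRingHom e] R' :=
    { e.toAddEquiv with map_smul' := fun r x => by simp }
  exact (ModuleCat.hasInjectiveDimensionLE_iff_of_semiLinearEquiv e (M := ModuleCat.of R R)
    (N := ModuleCat.of R' R') e' n).1 h

theorem exists_injDimLE {A : Type u} [CommRing A] [h : LocCoh.IsGorensteinLocalRing A] :
    ∃ n : ℕ, HasInjectiveDimensionLE (ModuleCat.of A A) n := by
  obtain ⟨n, hn⟩ := h.exists_hasInjectiveDimensionLT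
  exact ⟨n, hasInjectiveDimensionLT_of_ge _ n (n + 1) n.le_succ⟩

theorem gor_of_ringEquiv {R R' : Type u} [CommRing R] [CommRing R'] (e : R ≃+* R')
    [LocCoh.IsGorensteinLocalRing R] : LocCoh.IsGorensteinLocalRing R' := by
  have : IsLocalRing R' := e.isLocalRing
  have : IsNoetherianRing R' := isNoetherianRing_of_ringEquiv R e
  obtain ⟨n, hn⟩ := exists_injDimLE (A := R)
  exact { exists_hasInjectiveDimensionLT := ⟨n + 1, injDimLE_self_of_ringEquiv e hn⟩ }

theorem injDimLE_localization {R : Type u} [CommRing R] [IsNoetherianRing R] (S : Submonoid R)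
    {n : ℕ} (h : HasInjectiveDimensionLE (ModuleCat.of R R) n) :
    HasInjectiveDimensionLE (ModuleCat.of (Localization S) (Localization S)) n := by
  have h1 := ModuleCat.localizedModule_hasInjectiveDimensionLE n S (ModuleCat.of R R)
  have := ModuleCat.localizedModule_isLocalizedModule (ModuleCat.of R R) S
  exact (ModuleCat.hasInjectiveDimensionLE_iff_of_linearEquiv
    (M := (ModuleCat.of R R).localizedModule S)
    (N := ModuleCat.of (Localization S) (Localization S))
    (LinearEquiv.extendScalarsOfIsLocalization S (Localization S)
      (IsLocalizedModule.linearEquiv S ((ModuleCat.of R R).localizedModuleMkLinearMap S)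
        (Algebra.linearMap R (Localization S)))) n).1 h1

theorem gor_localization (A : Type u) [CommRing A] [LocCoh.IsGorensteinLocalRing A] (p : Ideal A)
    [p.IsPrime] : LocCoh.IsGorensteinLocalRing (Localization.AtPrime p) := by
  obtain ⟨n, hn⟩ := exists_injDimLE (A := A)
  exact { exists_hasInjectiveDimensionLT := ⟨n + 1, injDimLE_localization p.primeCompl hn⟩ }

/-- A Gorenstein local ring is a Gorenstein ring. -/
theorem gorRing_of_gor (A : Type u) [CommRing A] [LocCoh.IsGorensteinLocalRing A] :
    LocCoh.IsGorensteinRing A where
  isGorensteinLocalRing_localization p _ := gor_localization A p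

/-- Transport along any localization at a prime. -/
theorem gor_atPrime {A : Type u} [CommRing A] [LocCoh.IsGorensteinRing A] (p : Ideal A) [p.IsPrime]
    (B : Type u) [CommRing B] [Algebra A B] [IsLocalization.AtPrime B p] :
    LocCoh.IsGorensteinLocalRing B :=
  have := LocCoh.IsGorensteinRing.isGorensteinLocalRing_localization (A := A) p
  gor_of_ringEquiv (IsLocalization.algEquiv p.primeCompl (Localization.AtPrime p) B).toRingEquiv

theorem gorRing_of_ringEquiv {R R' : Type u} [CommRing R] [CommRing R'] (e : R ≃+* R')
    [LocCoh.IsGorensteinRing R] : LocCoh.IsGorensteinRing R' := by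
  have : IsNoetherianRing R' := isNoetherianRing_of_ringEquiv R e
  refine { isGorensteinLocalRing_localization := fun q _ => ?_ }
  have := LocCoh.IsGorensteinRing.isGorensteinLocalRing_localization (A := R)
    (q.comap e.toRingHom)
  exact gor_of_ringEquiv (IsLocalization.ringEquivOfRingEquiv
    (S := Localization.AtPrime (q.comap e.toRingHom)) (Q := Localization.AtPrime q) e
    (M := (q.comap e.toRingHom).primeCompl) (T := q.primeCompl) (by
      ext y
      simp [Ideal.primeCompl, Submonoid.mem_map]
      constructor
      · rintro ⟨x, hx, rfl⟩; exact hx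
      · exact fun hy => ⟨e.symm y, by simpa using hy, e.apply_symm_apply y⟩))

/-- A localization of a Gorenstein ring is a Gorenstein ring. -/
theorem gorRing_localization {A : Type u} [CommRing A] [LocCoh.IsGorensteinRing A]
    (S : Submonoid A) (B : Type u) [CommRing B] [Algebra A B] [IsLocalization S B] :
    LocCoh.IsGorensteinRing B := by
  have : IsNoetherianRing B := IsLocalization.isNoetherianRing S B inferInstance
  refine { isGorensteinLocalRing_localization := fun q _ => ?_ }
  have := IsLocalization.isLocalization_isLocalization_atPrime_isLocalization S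
    (S := B) (T := Localization.AtPrime q) q
  exact gor_atPrime (q.comap (algebraMap A B)) _

end Groth.Agent.Gor18
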