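import Groth.Agent.Gor18.FlatArt
import Groth.Agent.Gor18.Local
import Mathlib.RingTheory.Flat.FaithfullyFlat.Basic
import Mathlib.RingTheory.Flat.FaithfullyFlat.Algebra

/-!
# Gorenstein along flat local homomorphisms
-/

set_option autoImplicit false
set_option linter.unusedSectionVars false

universe u

open IsLocalRing TensorProduct

namespace Groth.Agent.Gor18

theorem gor_congr {R R' : Type u} [CommRing R] [CommRing R'] (e : R ≃+* R') :
    LocCoh.IsGorensteinLocalRing R ↔ LocCoh.IsGorensteinLocalRing R' :=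
  ⟨fun _ => gor_of_ringEquiv e, fun _ => gor_of_ringEquiv e.symm⟩

variable {A B : Type u} [CommRing A] [CommRing B] [IsLocalRing A] [IsLocalRing B]
  [IsNoetherianRing A] [IsNoetherianRing B] [Algebra A B] [IsLocalHom (algebraMap A B)]
  [Module.Flat A B]

theorem smulRegular_algebraMap {x : A} (hx : IsSMulRegular A x) :
    IsSMulRegular B (algebraMap A B x) := by
  intro b b' h
  have hinj : Function.Injective ((LinearMap.lsmul A A x).lTensor B) :=
    Module.Flat.lTensor_preserves_injective_linearMap (M := B) _ hx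
  have key : ∀ c : B, TensorProduct.rid A B ((LinearMap.lsmul A A x).lTensor B (c ⊗ₜ 1)) =
      algebraMap A B x • c := fun c => by simp [Algebra.smul_def]
  have h1 := congrArg (TensorProduct.rid A B) (hinj (a₁ := b ⊗ₜ 1) (a₂ := b' ⊗ₜ 1)
    ((TensorProduct.rid A B).injective (by rw [key, key]; exact h)))
  simpa using h1

theorem socle_ne_bot_of_flat
    [IsLocalRing (B ⧸ (maximalIdeal A).map (algebraMap A B))]
    (hA : LocCoh.torsionBy (maximalIdeal A) A ≠ ⊥)
    (hF : LocCoh.torsionBy (maximalIdeal (B ⧸ (maximalIdeal A).map (algebraMap A B)))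
      (B ⧸ (maximalIdeal A).map (algebraMap A B)) ≠ ⊥) :
    LocCoh.torsionBy (maximalIdeal B) B ≠ ⊥ := by
  obtain ⟨a, ha, ha0⟩ := (Submodule.ne_bot_iff _).1 hA
  obtain ⟨w, hw, hw0⟩ := (Submodule.ne_bot_iff _).1 hF
  obtain ⟨b, rfl⟩ := Ideal.Quotient.mk_surjective w
  have hkill : ∀ c ∈ (maximalIdeal A).map (algebraMap A B), c * algebraMap A B a = 0 := by
    intro c hc
    replace hc : c ∈ Ideal.span (algebraMap A B '' (maximalIdeal A : Set A)) := hc
    induction hc using Submodule.span_induction with
    | mem c hc =>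
      obtain ⟨r, hr, rfl⟩ := hc
      rw [← map_mul, show r * a = 0 from (Submodule.mem_torsionBySet_iff _ _).1 ha ⟨r, hr⟩, map_zero]
    | zero => exact zero_mul _
    | add c d _ _ h1 h2 => rw [add_mul, h1, h2, add_zero]
    | smul r c _ h1 => rw [smul_eq_mul, mul_assoc, h1, mul_zero]
  refine (Submodule.ne_bot_iff _).2 ⟨b * algebraMap A B a,
    (Submodule.mem_torsionBySet_iff _ _).2 fun ⟨c, hc⟩ => ?_, fun h0 => hw0 ?_⟩
  · show c * (b * algebraMap A B a) = 0
    rw [← mul_assoc]
    refine hkill _ (Ideal.Quotient.eq_zero_iff_mem.1 ?_)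
    rw [map_mul]
    have : IsLocalHom (Ideal.Quotient.mk ((maximalIdeal A).map (algebraMap A B))) :=
      IsLocalHom.of_surjective _ Ideal.Quotient.mk_surjective
    exact (Submodule.mem_torsionBySet_iff _ _).1 hw
      ⟨_, map_nonunit (Ideal.Quotient.mk _) c hc⟩
  · let φ : (A ⧸ maximalIdeal A) →ₗ[A] A :=
      (InjHull18.homQuotientEquiv (maximalIdeal A) A).symm ⟨a, ha⟩
    have hφ : Function.Injective φ := by
      refine (injective_iff_map_eq_zero φ).2 fun z hz => ?_
      obtain ⟨r, rfl⟩ := Ideal.Quotient.mk_surjective z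
      rw [InjHull18.homQuotientEquiv_symm_mk] at hz
      refine Ideal.Quotient.eq_zero_iff_mem.2 ((mem_maximalIdeal r).2 fun hu => ha0 ?_)
      exact hu.smul_eq_zero.1 hz
    have hinj : Function.Injective (φ.lTensor B) :=
      Module.Flat.lTensor_preserves_injective_linearMap (M := B) _ hφ
    have h1 : b ⊗ₜ[A] Ideal.Quotient.mk (maximalIdeal A) 1 = 0 := by
      apply hinj
      apply (TensorProduct.rid A B).injective
      rw [map_zero, map_zero, LinearMap.lTensor_tmul, TensorProduct.rid_tmul,
        InjHull18.homQuotientEquiv_symm_mk, one_smul, Algebra.smul_def, mul_comm]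
      exact h0
    have h2 := congrArg (Algebra.TensorProduct.quotIdealMapEquivTensorQuot B (maximalIdeal A)).symm h1
    rw [map_zero, Algebra.TensorProduct.quotIdealMapEquivTensorQuot_symm_tmul] at h2
    simpa using h2

/-- The reduction step for an element `y` of `B` regular on `B` with `B ⧸ y` flat over `A`. -/
theorem step_fibre_element {y : B} (hy : y ∈ maximalIdeal B) (hreg : IsSMulRegular B y)
    (hregF : IsSMulRegular (B ⧸ (maximalIdeal A).map (algebraMap A B))
      (Ideal.Quotient.mk ((maximalIdeal A).map (algebraMap A B)) y))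
    [IsLocalRing (B ⧸ Ideal.span {y})]
    (ih : LocCoh.IsGorensteinLocalRing (B ⧸ Ideal.span {y}) ↔
      (LocCoh.IsGorensteinLocalRing A ∧ LocCoh.IsGorensteinLocalRing
        ((B ⧸ Ideal.span {y}) ⧸ (maximalIdeal A).map (algebraMap A (B ⧸ Ideal.span {y}))))) :
    LocCoh.IsGorensteinLocalRing B ↔ (LocCoh.IsGorensteinLocalRing A ∧
      LocCoh.IsGorensteinLocalRing (B ⧸ (maximalIdeal A).map (algebraMap A B))) := by
  let I := (maximalIdeal A).map (algebraMap A B)
  have : Nontrivial (B ⧸ I) := Ideal.Quotient.nontrivial_iff.2 fun h =>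
    (maximalIdeal.isMaximal B).ne_top (top_le_iff.1 (h ▸ map_maximalIdeal_le))
  have : IsLocalRing (B ⧸ I) := IsLocalRing.of_surjective' _ Ideal.Quotient.mk_surjective
  have hyF : Ideal.Quotient.mk I y ∈ maximalIdeal (B ⧸ I) :=
    have : IsLocalHom (Ideal.Quotient.mk I) := IsLocalHom.of_surjective _ Ideal.Quotient.mk_surjective
    map_nonunit (Ideal.Quotient.mk I) y hy
  rw [gor_quotient_iff hy hreg, ih, gor_quotient_iff hyF hregF]
  refine and_congr_right fun _ => gor_congr ?_
  refine (Ideal.quotEquivOfEq ?_).trans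
    ((DoubleQuot.quotQuotEquivComm (Ideal.span {y}) I).trans (Ideal.quotEquivOfEq ?_))
  · rw [show algebraMap A (B ⧸ Ideal.span {y}) =
      (Ideal.Quotient.mk (Ideal.span {y})).comp (algebraMap A B) from rfl, Ideal.map_map]
  · rw [Ideal.map_span, Set.image_singleton]

/-- The reduction step for an element of the base. -/
theorem step_base_element {x : A} (hx : x ∈ maximalIdeal A) (hreg : IsSMulRegular A x)
    [IsLocalRing (A ⧸ Ideal.span {x})] [IsLocalRing (B ⧸ Ideal.span {algebraMap A B x})]
    [Algebra (A ⧸ Ideal.span {x}) (B ⧸ Ideal.span {algebraMap A B x})]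
    [IsScalarTower A (A ⧸ Ideal.span {x}) (B ⧸ Ideal.span {algebraMap A B x})]
    (ih : LocCoh.IsGorensteinLocalRing (B ⧸ Ideal.span {algebraMap A B x}) ↔
      (LocCoh.IsGorensteinLocalRing (A ⧸ Ideal.span {x}) ∧ LocCoh.IsGorensteinLocalRing
        ((B ⧸ Ideal.span {algebraMap A B x}) ⧸ (maximalIdeal (A ⧸ Ideal.span {x})).map
          (algebraMap (A ⧸ Ideal.span {x}) (B ⧸ Ideal.span {algebraMap A B x}))))) :
    LocCoh.IsGorensteinLocalRing B ↔ (LocCoh.IsGorensteinLocalRing A ∧
      LocCoh.IsGorensteinLocalRing (B ⧸ (maximalIdeal A).map (algebraMap A B))) := by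
  have hy : algebraMap A B x ∈ maximalIdeal B := map_nonunit (algebraMap A B) x hx
  rw [gor_quotient_iff hy (smulRegular_algebraMap hreg), ih, gor_quotient_iff hx hreg]
  refine and_congr_right fun _ => gor_congr ((Ideal.quotEquivOfEq ?_).trans
    (DoubleQuot.quotQuotEquivQuotOfLE ?_))
  · have hm : maximalIdeal (A ⧸ Ideal.span {x}) =
        (maximalIdeal A).map (Ideal.Quotient.mk (Ideal.span {x})) := by
      refine le_antisymm (fun b hb => ?_) (Ideal.map_le_iff_le_comap.2 fun a ha => ?_)
      · obtain ⟨a, rfl⟩ := Ideal.Quotient.mk_surjective b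
        exact Ideal.mem_map_of_mem _ fun hu => hb (hu.map _)
      · have : IsLocalHom (Ideal.Quotient.mk (Ideal.span {x})) :=
          IsLocalHom.of_surjective _ Ideal.Quotient.mk_surjective
        exact map_nonunit (Ideal.Quotient.mk (Ideal.span {x})) a ha
    rw [hm, Ideal.map_map, Ideal.map_map]
    congr 1
    exact (IsScalarTower.algebraMap_eq A (A ⧸ Ideal.span {x}) _).symm
  · exact (Ideal.span_singleton_le_iff_mem _).2 (Ideal.mem_map_of_mem _ hx)

theorem gor_flat_aux (n : ℕ) : ∀ (A B : Type u) [CommRing A] [CommRing B] [IsLocalRing A]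
    [IsLocalRing B] [IsNoetherianRing A] [IsNoetherianRing B] [Algebra A B]
    [IsLocalHom (algebraMap A B)] [Module.Flat A B], ringKrullDim B = n →
    (LocCoh.IsGorensteinLocalRing B ↔ (LocCoh.IsGorensteinLocalRing A ∧
      LocCoh.IsGorensteinLocalRing (B ⧸ (maximalIdeal A).map (algebraMap A B)))) := by
  induction n using Nat.strong_induction_on with
  | _ n ih => ?_
  intro A B _ _ _ _ _ _ _ _ _ hdim
  let I := (maximalIdeal A).map (algebraMap A B)
  have : Nontrivial (B ⧸ I) := Ideal.Quotient.nontrivial_iff.2 fun h =>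
    (maximalIdeal.isMaximal B).ne_top (top_le_iff.1 (h ▸ map_maximalIdeal_le))
  have : IsLocalRing (B ⧸ I) := IsLocalRing.of_surjective' _ Ideal.Quotient.mk_surjective
  have hdrop : ∀ y : B, y ∈ maximalIdeal B → IsSMulRegular B y →
      ∃ m < n, ringKrullDim (B ⧸ Ideal.span {y}) = (m : ℕ) := by
    intro y hy hreg
    have := isLocalRing_quotient hy
    obtain ⟨m, hm⟩ := gor_cm.exists_ringKrullDim_eq_nat (B ⧸ Ideal.span {y})
    refine ⟨m, ?_, hm⟩
    have h1 := ringKrullDim_quotient_span_singleton_succ_eq_ringKrullDim hreg hy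
    rw [hm, hdim] at h1
    norm_cast at h1
    omega
  by_cases hA : LocCoh.torsionBy (maximalIdeal A) A = ⊥
  · obtain ⟨x, hx, hreg⟩ := socle_eq_bot_iff_exists_regular.1 hA
    have hy : algebraMap A B x ∈ maximalIdeal B := map_nonunit (algebraMap A B) x hx
    have := isLocalRing_quotient hx
    have := isLocalRing_quotient hy
    obtain ⟨m, hmn, hm⟩ := hdrop _ hy (smulRegular_algebraMap hreg)
    let _ : Algebra (A ⧸ Ideal.span {x}) (B ⧸ Ideal.span {algebraMap A B x}) :=
      Ideal.Quotient.algebraQuotientOfLEComap ((Ideal.span_singleton_le_iff_mem _).2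
        (Ideal.mem_span_singleton_self (algebraMap A B x)))
    have : IsScalarTower A (A ⧸ Ideal.span {x}) (B ⧸ Ideal.span {algebraMap A B x}) :=
      IsScalarTower.of_algebraMap_eq fun a => rfl
    have : IsLocalHom (algebraMap (A ⧸ Ideal.span {x}) (B ⧸ Ideal.span {algebraMap A B x})) := by
      constructor
      intro a ha
      obtain ⟨a, rfl⟩ := Ideal.Quotient.mk_surjective a
      have hloc : IsLocalHom (Ideal.Quotient.mk (Ideal.span {algebraMap A B x})) :=
        IsLocalHom.of_surjective _ Ideal.Quotient.mk_surjective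
      exact (isUnit_of_map_unit (algebraMap A B) a
        (isUnit_of_map_unit (Ideal.Quotient.mk (Ideal.span {algebraMap A B x})) _ ha)).map _
    have hflat : Module.Flat (A ⧸ Ideal.span {x}) (B ⧸ Ideal.span {algebraMap A B x}) := by
      let e₁ : ((A ⧸ Ideal.span {x}) ⊗[A] B) ≃ₗ[A] (B ⧸ Ideal.span {algebraMap A B x}) :=
        (quotTensorEquivQuotSMul B (Ideal.span {x})).trans
          ((Submodule.quotEquivOfEq _
            ((Ideal.span {algebraMap A B x}).restrictScalars A) (by
              rw [Ideal.smul_top_eq_map, Ideal.map_span, Set.image_singleton])).trans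
            ((Submodule.Quotient.restrictScalarsEquiv A (Ideal.span {algebraMap A B x})).restrictScalars A))
      exact Module.Flat.of_linearEquiv
        (e₁.extendScalarsOfSurjective Ideal.Quotient.mk_surjective).symm
    exact step_base_element hx hreg (ih m hmn _ _ hm)
  by_cases hF : LocCoh.torsionBy (maximalIdeal (B ⧸ I)) (B ⧸ I) = ⊥
  · obtain ⟨w, hw, hregF⟩ := socle_eq_bot_iff_exists_regular.1 hF
    obtain ⟨y, rfl⟩ := Ideal.Quotient.mk_surjective w
    have hy : y ∈ maximalIdeal B := fun hu => hw (hu.map _)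
    let f : B →ₗ[A] B := LinearMap.mulLeft A y
    let e := (Algebra.TensorProduct.quotIdealMapEquivTensorQuot B (maximalIdeal A))
    have hf : Function.Injective (f.lTensor (A ⧸ maximalIdeal A)) := by
      let e' : ((A ⧸ maximalIdeal A) ⊗[A] B) ≃ₗ[A] (B ⧸ I) :=
        (TensorProduct.comm A _ _).trans (e.symm.toLinearEquiv.restrictScalars A)
      have key : ∀ z, e' (f.lTensor _ z) = Ideal.Quotient.mk I y • e' z := fun z => by
        induction z with
        | zero => simp
        | add a b ha hb => rw [map_add, map_add, map_add, ha, hb, smul_add]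
        | tmul q b =>
          obtain ⟨r, rfl⟩ := Ideal.Quotient.mk_surjective q
          show e.symm (f b ⊗ₜ[A] Ideal.Quotient.mk _ r) =
            Ideal.Quotient.mk I y * e.symm (b ⊗ₜ[A] Ideal.Quotient.mk _ r)
          rw [Algebra.TensorProduct.quotIdealMapEquivTensorQuot_symm_tmul,
            Algebra.TensorProduct.quotIdealMapEquivTensorQuot_symm_tmul]
          simp only [f, LinearMap.mulLeft_apply, Ideal.Quotient.mk_eq_mk,
            ← map_mul]
          simp only [Algebra.smul_def, map_mul]; exact mul_left_comm _ _ _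
      intro z z' h
      refine e'.injective (hregF ?_)
      show Ideal.Quotient.mk I y • e' z = Ideal.Quotient.mk I y • e' z'
      rw [← key, ← key, h]
    obtain ⟨hinj, hflat⟩ := FlatCrit65.injective_and_flat_quotient (S := B) (maximalIdeal A)
      ((map_maximalIdeal_le).trans (maximalIdeal_le_jacobson _)) f hf
    have hreg : IsSMulRegular B y := fun a b h => hinj h
    have := isLocalRing_quotient hy
    have : IsLocalHom (Ideal.Quotient.mk (Ideal.span {y})) :=
      IsLocalHom.of_surjective _ Ideal.Quotient.mk_surjective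
    have : IsLocalHom (algebraMap A (B ⧸ Ideal.span {y})) :=
      RingHom.isLocalHom_comp (Ideal.Quotient.mk (Ideal.span {y})) (algebraMap A B)
    have hrange : LinearMap.range f = (Ideal.span {y}).restrictScalars A := by
      ext b
      simp [f, Ideal.mem_span_singleton, dvd_def, eq_comm]
    have : Module.Flat A (B ⧸ Ideal.span {y}) :=
      Module.Flat.of_linearEquiv ((Submodule.quotEquivOfEq _ _ hrange).trans
        ((Submodule.Quotient.restrictScalarsEquiv A (Ideal.span {y})).restrictScalars A)).symm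
    obtain ⟨m, hmn, hm⟩ := hdrop _ hy hreg
    exact step_fibre_element hy hreg hregF (ih m hmn _ _ hm)
  constructor
  · intro hB
    have := isArtinianRing_of_socle_ne_bot (socle_ne_bot_of_flat hA hF)
    have : Module.FaithfullyFlat A B := Module.FaithfullyFlat.of_flat_of_isLocalHom
    have : IsArtinian B (B ⊗[A] A) :=
      isArtinian_of_linearEquiv (AlgebraTensorModule.rid A B B).symm
    have : IsArtinianRing A := Submodule.IsArtinian.of_isArtinian_tensorProduct_of_faithfullyFlat (A := B) ‹_›
    exact artinian_flat_iff.1 hB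
  · rintro ⟨hGA, hGF⟩
    have := isArtinianRing_of_socle_ne_bot hA
    have := isArtinianRing_of_socle_ne_bot hF
    obtain ⟨k, hk⟩ := (isArtinianRing_iff_isNilpotent_maximalIdeal A).1 inferInstance
    obtain ⟨l, hl⟩ := IsLocalRing.exists_maximalIdeal_pow_le_of_isArtinianRing_quotient I
    have : IsArtinianRing B := by
      refine (isArtinianRing_iff_isNilpotent_maximalIdeal B).2 ⟨l * k, le_bot_iff.1 ?_⟩
      rw [pow_mul]
      refine (Ideal.pow_right_mono hl k).trans ?_
      rw [← Ideal.map_pow, hk, Ideal.zero_eq_bot, Ideal.map_bot]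
    exact artinian_flat_iff.2 ⟨hGA, hGF⟩

/-- Gorenstein along a flat local homomorphism. -/
theorem gor_flat_iff :
    LocCoh.IsGorensteinLocalRing B ↔ (LocCoh.IsGorensteinLocalRing A ∧
      LocCoh.IsGorensteinLocalRing (B ⧸ (maximalIdeal A).map (algebraMap A B))) :=
  have ⟨n, hn⟩ := gor_cm.exists_ringKrullDim_eq_nat B
  gor_flat_aux n A B hn

end Groth.Agent.Gor18
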