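import Groth.Agent.Gor18.Fibre
import Mathlib.RingTheory.DedekindDomain.Basic
import Mathlib.RingTheory.LocalRing.ResidueField.Polynomial
import Mathlib.RingTheory.PolynomialAlgebra

/-!
# Polynomial rings over Gorenstein rings, quotients by regular elements
-/

set_option autoImplicit false
set_option linter.unusedSectionVars false
set_option linter.overlappingInstances false

universe u

open IsLocalRing Polynomial

namespace Groth.Agent.Gor18

/-- A principal ideal domain is Gorenstein. -/
theorem gorRing_of_pid (A : Type u) [CommRing A] [IsDomain A] [IsPrincipalIdealRing A] :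
    LocCoh.IsGorensteinRing A where
  isGorensteinLocalRing_localization p _ := by
    have : IsPrincipalIdealRing (Localization.AtPrime p) := ⟨fun J => by
      obtain ⟨a, ha⟩ := (IsPrincipalIdealRing.principal (J.under A))
      rw [← IsLocalization.map_under (M := p.primeCompl) (S := Localization.AtPrime p) J, ha]
      exact ⟨⟨algebraMap A (Localization.AtPrime p) a, by
        rw [Ideal.submodule_span_eq, Ideal.map_span, Set.image_singleton]⟩⟩⟩
    have : IsDomain (Localization.AtPrime p) :=
      IsLocalization.isDomain_localization (Ideal.primeCompl_le_nonZeroDivisors p)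
    exact regular_gor _

theorem gorRing_polynomial (R : Type u) [CommRing R] [LocCoh.IsGorensteinRing R] :
    LocCoh.IsGorensteinRing R[X] := by
  refine gorRing_of_fibres (R := R) fun p _ => ?_
  have := gorRing_of_pid p.ResidueField[X]
  exact gorRing_of_ringEquiv (R := p.ResidueField[X])
    ((polyEquivTensor R p.ResidueField).toRingEquiv)

theorem gorRing_mvPolynomial (R : Type u) [CommRing R] [LocCoh.IsGorensteinRing R] :
    ∀ n : ℕ, LocCoh.IsGorensteinRing (MvPolynomial (Fin n) R)
  | 0 => gorRing_of_ringEquiv (MvPolynomial.isEmptyRingEquiv R (Fin 0)).symm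
  | n + 1 =>
    have := gorRing_mvPolynomial R n
    have := gorRing_polynomial (MvPolynomial (Fin n) R)
    gorRing_of_ringEquiv (MvPolynomial.finSuccEquiv R n).toRingEquiv.symm

theorem isLocalization_atPrime_quotient {P : Type u} [CommRing P] (Q : Ideal P) [Q.IsPrime]
    (B : Type u) [CommRing B] [Algebra P B] [IsLocalization.AtPrime B Q] (I : Ideal P)
    (Qb : Ideal (P ⧸ I)) [Qb.IsPrime] (h : Qb.comap (Ideal.Quotient.mk I) = Q) :
    IsLocalization.AtPrime (B ⧸ I.map (algebraMap P B)) Qb := by
  have e : Algebra.algebraMapSubmonoid (P ⧸ I) Q.primeCompl = Qb.primeCompl := by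
    ext y
    constructor
    · rintro ⟨x, hx, rfl⟩ hy
      exact hx (h ▸ hy : x ∈ Q)
    · intro hy
      obtain ⟨x, rfl⟩ := Ideal.Quotient.mk_surjective y
      exact ⟨x, fun hx => hy (Ideal.mem_comap.1 (h.symm ▸ hx : x ∈ Qb.comap (Ideal.Quotient.mk I))), rfl⟩
  have inst : IsLocalization (Algebra.algebraMapSubmonoid (P ⧸ I) Q.primeCompl)
      (B ⧸ I.map (algebraMap P B)) := inferInstance
  rw [e] at inst
  exact inst

/-- Gorenstein-ness at a prime of the quotient by an element regular at that prime. -/
theorem gor_atPrime_quotient_iff {A : Type u} [CommRing A] [IsNoetherianRing A] {f : A}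
    (q : Ideal (A ⧸ Ideal.span {f})) [q.IsPrime]
    (hreg : IsSMulRegular (Localization.AtPrime (q.comap (Ideal.Quotient.mk (Ideal.span {f}))))
      (algebraMap A (Localization.AtPrime (q.comap (Ideal.Quotient.mk (Ideal.span {f})))) f)) :
    LocCoh.IsGorensteinLocalRing (Localization.AtPrime q) ↔
      LocCoh.IsGorensteinLocalRing
        (Localization.AtPrime (q.comap (Ideal.Quotient.mk (Ideal.span {f})))) := by
  let p := q.comap (Ideal.Quotient.mk (Ideal.span {f}))
  let B := Localization.AtPrime p
  have hfp : f ∈ p := by
    show Ideal.Quotient.mk (Ideal.span {f}) f ∈ q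
    rw [Ideal.Quotient.eq_zero_iff_mem.2 (Ideal.mem_span_singleton_self f)]
    exact zero_mem _
  have hfm : algebraMap A B f ∈ maximalIdeal B :=
    (IsLocalization.AtPrime.to_map_mem_maximal_iff B p f).2 hfp
  have := isLocalization_atPrime_quotient p B (Ideal.span {f}) q rfl
  have := isLocalRing_quotient hfm
  rw [gor_quotient_iff hfm hreg]
  refine gor_congr ((IsLocalization.algEquiv q.primeCompl (Localization.AtPrime q)
    (B ⧸ (Ideal.span {f}).map (algebraMap A B))).toRingEquiv.trans (Ideal.quotEquivOfEq ?_))
  rw [Ideal.map_span, Set.image_singleton]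

/-- The quotient of a Gorenstein ring by a regular element is Gorenstein. -/
theorem gorRing_quotient {A : Type u} [CommRing A] [LocCoh.IsGorensteinRing A] {f : A}
    (hf : IsSMulRegular A f) : LocCoh.IsGorensteinRing (A ⧸ Ideal.span {f}) where
  isGorensteinLocalRing_localization q _ := by
    refine (gor_atPrime_quotient_iff q ?_).2
      (LocCoh.IsGorensteinRing.isGorensteinLocalRing_localization _)
    exact smulRegular_localization hf _
where
  smulRegular_localization {A : Type u} [CommRing A] {f : A} (hf : IsSMulRegular A f)
      (p : Ideal A) [p.IsPrime] :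
      IsSMulRegular (Localization.AtPrime p) (algebraMap A (Localization.AtPrime p) f) := by
    have : f ∈ nonZeroDivisors A := mem_nonZeroDivisors_iff_right.2 fun x hx =>
      hf (show f • x = f • 0 by rw [smul_zero, smul_eq_mul, mul_comm, hx])
    exact (IsLocalization.map_nonZeroDivisors_le p.primeCompl (Localization.AtPrime p)
      ⟨f, this, rfl⟩) |> fun h => fun a b hab => by
        have := mem_nonZeroDivisors_iff_right.1 h (a - b) (by
          rw [mul_comm, mul_sub, sub_eq_zero]; exact hab)
        exact sub_eq_zero.1 this

end Groth.Agent.Gor18
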