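import Groth.Agent.Gor18.ChangeRings
import Groth.Agent.EGA4Alg4.HomDim
import Groth.Agent.InjHull18.Indec
import Groth.Agent.InjHull18.Length

/-!
# Gorenstein local rings: basic criteria
-/

set_option autoImplicit false
set_option linter.unusedSectionVars false
set_option linter.overlappingInstances false
set_option linter.unusedVariables false

universe u

open CategoryTheory Abelian IsLocalRing

namespace Groth.Agent.Gor18

variable {A : Type u} [CommRing A] [IsLocalRing A] [IsNoetherianRing A]

variable (A) in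
/-- Vanishing of `Ext^i(k, A)` for all `i > n`. -/
def ExtVanishAbove (n : ℕ) : Prop :=
  ∀ i, n < i → Subsingleton (Ext (ModuleCat.of A (ResidueField A)) (ModuleCat.of A A) i)

theorem injDimLT_of_extVanishAbove {n : ℕ} (h : ExtVanishAbove A n) :
    HasInjectiveDimensionLT (ModuleCat.of A A) (n + 1) :=
  EGA4Alg4.hasInjectiveDimensionLT_of_ext_cyclic n _ fun _ =>
    EGA4Alg4.subsingleton_ext_of_residueField n _ h _ (n + 1) n.lt_succ_self

theorem gor_iff_ext : LocCoh.IsGorensteinLocalRing A ↔ ∃ n, ExtVanishAbove A n := by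
  constructor
  · intro h
    obtain ⟨n, hn⟩ := h.exists_hasInjectiveDimensionLT
    exact ⟨n, fun i hi => HasInjectiveDimensionLT.subsingleton _ n i hi.le _⟩
  · rintro ⟨n, hn⟩
    exact { exists_hasInjectiveDimensionLT := ⟨n + 1, injDimLT_of_extVanishAbove hn⟩ }

theorem gor_of_injective (h : Module.Injective A A) : LocCoh.IsGorensteinLocalRing A :=
  have : Injective (ModuleCat.of A A) := Module.injective_object_of_injective_module (inj := h) A A
  { exists_hasInjectiveDimensionLT := ⟨1, inferInstance⟩ }

variable {x : A}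

theorem nontrivial_quotient (hx : x ∈ maximalIdeal A) : Nontrivial (A ⧸ Ideal.span {x}) :=
  Ideal.Quotient.nontrivial_iff.2 fun h => (maximalIdeal.isMaximal A).ne_top
    (top_le_iff.1 (h ▸ (Ideal.span_singleton_le_iff_mem _).2 hx))

theorem isLocalRing_quotient (hx : x ∈ maximalIdeal A) : IsLocalRing (A ⧸ Ideal.span {x}) :=
  have := nontrivial_quotient hx
  IsLocalRing.of_surjective' _ Ideal.Quotient.mk_surjective

theorem ext_residueField_iff (hx : x ∈ maximalIdeal A) (hreg : IsSMulRegular A x)
    [IsLocalRing (A ⧸ Ideal.span {x})] (n : ℕ) :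
    Subsingleton (Ext (ModuleCat.of A (ResidueField A)) (ModuleCat.of A A) (n + 2)) ↔
      Subsingleton (Ext (ModuleCat.of (A ⧸ Ideal.span {x}) (ResidueField (A ⧸ Ideal.span {x})))
        (ModuleCat.of (A ⧸ Ideal.span {x}) (A ⧸ Ideal.span {x})) (n + 1)) := by
  let _ : Algebra A (ResidueField (A ⧸ Ideal.span {x})) :=
    ((residue _).comp (Ideal.Quotient.mk (Ideal.span {x}))).toAlgebra
  have : IsScalarTower A (A ⧸ Ideal.span {x}) (ResidueField (A ⧸ Ideal.span {x})) :=
    IsScalarTower.of_algebraMap_eq fun a => rfl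
  let π : A →ₗ[A] ResidueField (A ⧸ Ideal.span {x}) := Algebra.linearMap A _
  have hπ : Function.Surjective π := fun z => by
    obtain ⟨b, rfl⟩ := residue_surjective z
    obtain ⟨a, rfl⟩ := Ideal.Quotient.mk_surjective b
    exact ⟨a, rfl⟩
  have hker : LinearMap.ker π = maximalIdeal A := by
    have hmax : (RingHom.ker (algebraMap A (ResidueField (A ⧸ Ideal.span {x})))).IsMaximal :=
      RingHom.ker_isMaximal_of_surjective _ hπ
    exact IsLocalRing.eq_maximalIdeal hmax
  let e : ResidueField A ≃ₗ[A] ResidueField (A ⧸ Ideal.span {x}) :=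
    (Submodule.quotEquivOfEq _ _ hker.symm).trans (π.quotKerEquivOfSurjective hπ)
  have hsp : Ideal.span {x} • (⊤ : Submodule A A) = Ideal.span {x} := by
    rw [smul_eq_mul, Ideal.mul_top]
  let e' : (A ⧸ Ideal.span {x} • (⊤ : Submodule A A)) ≃ₗ[A ⧸ Ideal.span {x}]
      (A ⧸ Ideal.span {x}) :=
    (Submodule.quotEquivOfEq _ _ hsp).extendScalarsOfSurjective Ideal.Quotient.mk_surjective
  refine Iff.trans ⟨fun h => subsingleton_ext_congr e.symm.toModuleIso (Iso.refl _) h,
      fun h => subsingleton_ext_congr e.toModuleIso (Iso.refl _) h⟩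
    ((subsingleton_ext_iff_quotient hreg A hreg n (ResidueField (A ⧸ Ideal.span {x}))).trans
      ⟨fun h => subsingleton_ext_congr (Iso.refl _) e'.toModuleIso h,
        fun h => subsingleton_ext_congr (Iso.refl _) e'.symm.toModuleIso h⟩)

/-- Gorenstein is unchanged by dividing out a regular element of the maximal ideal. -/
theorem gor_quotient_iff (hx : x ∈ maximalIdeal A) (hreg : IsSMulRegular A x) :
    LocCoh.IsGorensteinLocalRing A ↔ LocCoh.IsGorensteinLocalRing (A ⧸ Ideal.span {x}) := by
  have := isLocalRing_quotient hx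
  rw [gor_iff_ext, gor_iff_ext]
  constructor
  · rintro ⟨n, hn⟩
    refine ⟨n, fun i hi => ?_⟩
    obtain ⟨j, rfl⟩ : ∃ j, i = j + 1 := ⟨i - 1, by omega⟩
    exact (ext_residueField_iff hx hreg j).1 (hn _ (by omega))
  · rintro ⟨n, hn⟩
    refine ⟨n + 1, fun i hi => ?_⟩
    obtain ⟨j, rfl⟩ : ∃ j, i = j + 2 := ⟨i - 2, by omega⟩
    exact (ext_residueField_iff hx hreg j).2 (hn _ (by omega))

variable [LocCoh.IsGorensteinLocalRing A]

/-- A Gorenstein local ring with a nonzero socle is self-injective. -/
theorem injective_of_socle_ne_bot (h : LocCoh.torsionBy (maximalIdeal A) A ≠ ⊥) :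
    Module.Injective A A := by
  obtain ⟨y, hy, hy0⟩ := (Submodule.ne_bot_iff _).1 h
  let f : ResidueField A →ₗ[A] A := (InjHull18.homQuotientEquiv (maximalIdeal A) A).symm ⟨y, hy⟩
  have hf : Function.Injective f := by
    refine (injective_iff_map_eq_zero f).2 fun z hz => ?_
    obtain ⟨a, rfl⟩ := residue_surjective z
    have h1 : a • y = 0 := hz
    by_contra ha
    exact hy0 (((residue_ne_zero_iff_isUnit a).1 ha).smul_eq_zero.1 h1)
  have hS := shortExact_of hf (LinearMap.exact_map_mkQ_range f) (Submodule.mkQ_surjective _)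
  have : Projective (ModuleCat.of A A) :=
    ModuleCat.projective_of_free (Module.Basis.singleton Unit A)
  obtain ⟨N, hN⟩ := gor_iff_ext.1 (inferInstance : LocCoh.IsGorensteinLocalRing A)
  suffices H : ExtVanishAbove A 0 by
    have h1 : HasInjectiveDimensionLT (ModuleCat.of A A) 1 := injDimLT_of_extVanishAbove H
    exact Module.injective_module_of_injective_object A A
      (inj := injective_iff_hasInjectiveDimensionLT_one.2 h1)
  induction N with
  | zero => exact hN
  | succ n ih =>
    refine ih fun i hi => ?_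
    rcases Nat.lt_or_ge (n + 1) i with h' | h'
    · exact hN i h'
    obtain rfl : i = n + 1 := by omega
    refine subsingleton_of_forall_eq 0 fun c => ?_
    have hd : HasInjectiveDimensionLT (ModuleCat.of A A) (n + 2) := injDimLT_of_extVanishAbove hN
    have hQ : Subsingleton (Ext (ModuleCat.of A (A ⧸ LinearMap.range f)) (ModuleCat.of A A)
        (n + 2)) := HasInjectiveDimensionLT.subsingleton _ (n + 2) (n + 2) le_rfl _
    obtain ⟨z, rfl⟩ := Ext.contravariant_sequence_exact₁ hS (ModuleCat.of A A) c
      (n₁ := n + 2) (by omega) (hQ.elim _ _)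
    rw [Ext.eq_zero_of_projective z, Ext.comp_zero]

omit [IsNoetherianRing A] [LocCoh.IsGorensteinLocalRing A] in
theorem indecomposable_self : InjHull.IsIndecomposable A A := by
  refine ⟨inferInstance, fun N N' hc => ?_⟩
  by_cases hN : N = ⊤
  · right; simpa [hN] using hc.inf_eq_bot
  · left
    have hN' : N' = ⊤ := by
      by_contra hN'
      refine (maximalIdeal.isMaximal A).ne_top (top_le_iff.1 ?_)
      rw [← hc.sup_eq_top]
      exact sup_le (IsLocalRing.le_maximalIdeal hN) (IsLocalRing.le_maximalIdeal hN')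
    simpa [hN'] using hc.inf_eq_bot

omit [LocCoh.IsGorensteinLocalRing A] in
theorem exists_hull_self (hinj : Module.Injective A A)
    (h : LocCoh.torsionBy (maximalIdeal A) A ≠ ⊥) :
    ∃ g : ResidueField A →ₗ[A] A, InjHull.IsInjectiveHull g := by
  obtain ⟨y, hy, hy0⟩ := (Submodule.ne_bot_iff _).1 h
  refine (InjHull18.exists_hull_of_elem (maximalIdeal A) hinj hy0 hy fun z hz => ?_).imp
    fun g hg => hg.1
  obtain ⟨w, hw, hw0⟩ := (Submodule.ne_bot_iff _).1
    (InjHull18.uniform_of_indecomposable indecomposable_self hinj (Submodule.span A {z})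
      (Submodule.span A {y}) (by simpa [Submodule.span_singleton_eq_bot] using hz)
      (by simpa [Submodule.span_singleton_eq_bot] using hy0))
  obtain ⟨r, rfl⟩ := Submodule.mem_span_singleton.1 hw.1
  exact ⟨r, hw.2, hw0⟩

/-- A Gorenstein local ring of depth zero is Artinian. -/
theorem isArtinianRing_of_socle_ne_bot (h : LocCoh.torsionBy (maximalIdeal A) A ≠ ⊥) :
    IsArtinianRing A := by
  obtain ⟨g, hg⟩ := exists_hull_self (injective_of_socle_ne_bot h) h
  exact InjHull18.isArtinian_hull (m := maximalIdeal A) (f := g) hg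

omit [LocCoh.IsGorensteinLocalRing A] in
theorem socle_ne_bot_of_isArtinianRing [IsArtinianRing A] :
    LocCoh.torsionBy (maximalIdeal A) A ≠ ⊥ := by
  intro h
  obtain ⟨r, hr, hr0⟩ := InjHull18.exists_socle_smul (m := maximalIdeal A) (x := (1 : A))
    one_ne_zero (InjHull18.isPowerTorsion_of_isArtinian 1)
  exact hr0 ((Submodule.eq_bot_iff _).1 h _ hr)

omit [LocCoh.IsGorensteinLocalRing A] in
/-- An Artinian local ring is Gorenstein exactly when its socle is simple. -/
theorem artinian_gor_iff_simple_socle [IsArtinianRing A] :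
    LocCoh.IsGorensteinLocalRing A ↔
      IsSimpleModule A ↥(LocCoh.torsionBy (maximalIdeal A) A) := by
  constructor
  · intro _
    obtain ⟨g, hg⟩ := exists_hull_self (injective_of_socle_ne_bot (socle_ne_bot_of_isArtinianRing (A := A)))
      socle_ne_bot_of_isArtinianRing
    have := InjHull18.isSimpleModule_linearMap (m := maximalIdeal A) (f := g) hg.toIsEssentialInj
    exact IsSimpleModule.congr (InjHull18.homQuotientEquiv (maximalIdeal A) A).symm
  · intro hs
    obtain ⟨n, hn⟩ := (isArtinianRing_iff_isNilpotent_maximalIdeal A).1 inferInstance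
    obtain ⟨f, hf⟩ := InjHull18.exists_hull_of_length (I := A)
      InjHull18.isPowerTorsion_of_isArtinian hs (fun _ => ⊥) (fun _ => ⟨n, hn.le⟩)
      (fun _ => ⟨0, bot_le⟩) fun _ => by
        have htop : LocCoh.torsionBy (⊥ : Ideal A) A = ⊤ := eq_top_iff.2 fun y _ =>
          (Submodule.mem_torsionBySet_iff _ _).2 fun a => by
            have ha : (a : A) = 0 := a.2
            rw [ha, zero_smul]
        rw [((LinearEquiv.ofEq _ _ htop).trans Submodule.topEquiv).length_eq,
          (Submodule.quotEquivOfEqBot _ rfl).length_eq]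
    exact gor_of_injective hf.isInjective

end Groth.Agent.Gor18
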