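import Groth.Agent.Gor18.Basic
import Groth.Agent.EGA4Alg4.Depth
import Mathlib.RingTheory.KrullDimension.Regular

/-!
# Gorenstein implies Cohen-Macaulay; regular sequences
-/

set_option autoImplicit false
set_option linter.unusedSectionVars false

universe u

open IsLocalRing RingTheory.Sequence

namespace Groth.Agent.Gor18

theorem socle_eq_bot_iff_exists_regular {A : Type u} [CommRing A] [IsLocalRing A]
    [IsNoetherianRing A] :
    LocCoh.torsionBy (maximalIdeal A) A = ⊥ ↔ ∃ x ∈ maximalIdeal A, IsSMulRegular A x := by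
  constructor
  · intro h
    by_contra hx
    push Not at hx
    obtain ⟨φ, hφ⟩ := @exists_ne _ (EGA4Alg4.maximalIdeal_mem_assoc_iff_nontrivial_hom.1
      (EGA4Alg4.maximalIdeal_mem_assoc_iff.2 hx)) 0
    refine hφ ((LinearEquiv.map_eq_zero_iff (InjHull18.homQuotientEquiv (maximalIdeal A) A)).1 ?_)
    exact Subtype.ext ((Submodule.eq_bot_iff _).1 h _
      (InjHull18.homQuotientEquiv (maximalIdeal A) A φ).2)
  · rintro ⟨x, hx, hreg⟩
    refine (Submodule.eq_bot_iff _).2 fun y hy => hreg.right_eq_zero_of_smul ?_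
    exact (Submodule.mem_torsionBySet_iff _ _).1 hy ⟨x, hx⟩

theorem exists_regular_sequence_of_gor (n : ℕ) : ∀ (A : Type u) [CommRing A]
    [LocCoh.IsGorensteinLocalRing A], ringKrullDim A = n →
      ∃ rs : List A, rs.length = n ∧ (∀ r ∈ rs, r ∈ maximalIdeal A) ∧ IsWeaklyRegular A rs := by
  induction n with
  | zero => exact fun A _ _ _ => ⟨[], rfl, by simp, IsWeaklyRegular.nil A A⟩
  | succ n ih =>
    intro A _ _ hdim
    have h0 : LocCoh.torsionBy (maximalIdeal A) A = ⊥ := by
      by_contra h
      have := isArtinianRing_of_socle_ne_bot h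
      have h1 : ringKrullDim A = 0 := le_antisymm (Ring.krullDimLE_iff.1 inferInstance)
        ringKrullDim_nonneg_of_nontrivial
      rw [hdim, Nat.cast_succ] at h1
      norm_cast at h1
    obtain ⟨x, hx, hreg⟩ := socle_eq_bot_iff_exists_regular.1 h0
    have := isLocalRing_quotient hx
    have : LocCoh.IsGorensteinLocalRing (A ⧸ Ideal.span {x}) :=
      (gor_quotient_iff hx hreg).1 inferInstance
    have hdim' : ringKrullDim (A ⧸ Ideal.span {x}) = n := by
      have h1 := ringKrullDim_quotient_span_singleton_succ_eq_ringKrullDim hreg hx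
      rw [hdim, Nat.cast_succ] at h1
      exact ringKrullDim_add_one_cancel h1
    obtain ⟨rs, hlen, hmem, hr⟩ := ih _ hdim'
    choose g hg using Ideal.Quotient.mk_surjective (I := Ideal.span {x})
    refine ⟨x :: rs.map g, by simp [hlen], ?_, ?_⟩
    · rintro r hr'
      rcases List.mem_cons.1 hr' with rfl | hr'
      · exact hx
      · obtain ⟨b, hb, rfl⟩ := List.mem_map.1 hr'
        intro hu
        exact hmem b hb (by rw [← hg b]; exact hu.map _)
    · refine (isWeaklyRegular_cons_iff A x _).2 ⟨hreg, ?_⟩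
      let e : (A ⧸ Ideal.span {x}) ≃ₗ[A] QuotSMulTop x A :=
        Submodule.quotEquivOfEq _ _ (by
          rw [← Submodule.ideal_span_singleton_smul, smul_eq_mul, Ideal.mul_top])
      rw [← e.isWeaklyRegular_congr, ← isWeaklyRegular_map_algebraMap_iff (A ⧸ Ideal.span {x})]
      rw [List.map_map, show List.map (algebraMap A (A ⧸ Ideal.span {x}) ∘ g) rs = rs from
        (List.map_congr_left fun b _ => hg b).trans (List.map_id _)]
      exact hr
where
  ringKrullDim_add_one_cancel {B : Type u} [CommRing B] {n : ℕ}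
      (h : ringKrullDim B + 1 = (n : WithBot ℕ∞) + 1) : ringKrullDim B = n := by
    generalize ringKrullDim B = a at h
    induction a with
    | bot => exact absurd h (by rw [WithBot.bot_add]; exact WithBot.bot_ne_coe)
    | coe a =>
      induction a with
      | top => exact absurd (WithBot.coe_injective (h.trans (by norm_cast) : _ = ((n + 1 : ℕ∞) : WithBot ℕ∞))) (by
        intro e; replace e : (⊤ : ℕ∞) + 1 = ((n + 1 : ℕ) : ℕ∞) := by exact_mod_cast e
        rw [top_add] at e; exact absurd e.symm (ENat.natCast_ne_top _))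
      | coe a =>
        norm_cast at h ⊢
        omega

theorem gor_cm (A : Type u) [CommRing A] [LocCoh.IsGorensteinLocalRing A] :
    LocCoh.IsCohenMacaulayLocalRing A := by
  obtain ⟨n, hn⟩ : ∃ n : ℕ, ringKrullDim A = n := exists_ringKrullDim_eq_nat A
  obtain ⟨rs, hlen, hmem, hr⟩ := exists_regular_sequence_of_gor n A hn
  have h1 : LocCoh.IsCohenMacaulayModule A A := by
    refine EGA4Alg4.isCohenMacaulayModule_iff.2 ⟨inferInstance, ?_⟩
    rw [Module.supportDim_self_eq_ringKrullDim, hn]
    have h2 := EGA4Alg4.length_le_depth hr hmem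
    rw [hlen] at h2
    exact_mod_cast h2
  exact { supportDim_eq_depth := h1 }
where
  exists_ringKrullDim_eq_nat (A : Type u) [CommRing A] [IsLocalRing A] [IsNoetherianRing A] :
      ∃ n : ℕ, ringKrullDim A = n := by
    obtain ⟨m, hm⟩ : ∃ m : ℕ∞, ringKrullDim A = m :=
      ⟨_, (WithBot.coe_unbot _ ringKrullDim_ne_bot).symm⟩
    induction m with
    | top => exact absurd hm ringKrullDim_ne_top
    | coe n => exact ⟨n, hm⟩

end Groth.Agent.Gor18
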