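import Groth.Agent.Gor18.Poly
import Groth.Agent.LCI19.Local
import Groth.Agent.Koszul19.Seq
import Mathlib.RingTheory.Regular.Flat

/-!
# Koszul-regular sequences in local rings and Gorenstein quotients
-/

set_option autoImplicit false
set_option linter.unusedSectionVars false

universe u

open IsLocalRing RingTheory.Sequence Groth.Agent.Koszul19

namespace Groth.Agent.Gor18

variable {A : Type u} [CommRing A]

theorem finite_koszul_X (l : List A) : ∀ q : ℤ, Module.Finite A ((Koszul.koszul A l).X q) := by
  induction l with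
  | nil =>
    intro q
    by_cases hq : q = 0
    · subst hq
      exact Module.Finite.equiv (eps ([] : List A)).symm
    · have := subsingleton_nil (A := A) hq
      infer_instance
  | cons f l ih =>
    intro q
    have := ih q
    have := ih (q + 1)
    exact Module.Finite.equiv ((consData f l).e q (q + 1) rfl).symm

theorem ex_of_cone_ex [IsNoetherianRing A] {f : A} {K L : CochainComplex (ModuleCat.{u} A) ℤ}
    (c : ConeData f K L) (p q j : ℤ) (hp : p + 1 = q) (hj : q + 1 = j)
    [Module.Finite A (K.X q)] (hf : f ∈ Ideal.jacobson (⊥ : Ideal A)) (hL : Ex L q) :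
    ∀ a : K.X q, dd K q j a = 0 → ∃ w, dd K p q w = a := by
  intro a ha
  have key : LinearMap.ker (dd K q j) ≤ LinearMap.range (dd K p q) := by
    refine Submodule.le_of_le_smul_of_le_jacobson_bot (I := Ideal.span {f})
      (IsNoetherian.noetherian _) ((Ideal.span_singleton_le_iff_mem _).2 hf) ?_
    intro a ha
    have ha' : dd K q j a = 0 := ha
    have hz : dd L q j ((c.e q j hj).symm (0, a)) = 0 := by
      rw [c.cycle_iff q j (j + 1) hj rfl, LinearEquiv.apply_symm_apply]
      simp [ha']
    obtain ⟨w, hw⟩ := hL p j hp hj _ hz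
    obtain ⟨⟨w1, w2⟩, rfl⟩ := (c.e p q hp).symm.surjective w
    have h1 := congrArg (c.e q j hj) hw
    rw [c.e_d_symm p q j hp hj, LinearEquiv.apply_symm_apply] at h1
    have h2 := Prod.ext_iff.1 h1
    simp only [neg_eq_zero] at h2
    obtain ⟨h21, h22⟩ := h2
    refine Submodule.mem_sup.2 ⟨dd K p q w2, ⟨w2, rfl⟩, f • w1,
      Submodule.smul_mem_smul (Ideal.mem_span_singleton_self f) h21, ?_⟩
    rw [← h22, add_comm]
  exact key ha

theorem kR_tail [IsNoetherianRing A] {f : A} {l : List A} (hf : f ∈ Ideal.jacobson (⊥ : Ideal A))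
    (h : KR (f :: l)) : KR l := by
  refine kR_of_neg l fun q hq => ?_
  have := finite_koszul_X l q
  intro p j hp hj z hz
  exact ex_of_cone_ex (consData f l) p q j hp hj hf (h q (by omega)) z hz

/-- Koszul-regular sequences in the Jacobson radical of a Noetherian ring are weakly regular. -/
theorem isWeaklyRegular_reverse_of_kR [IsNoetherianRing A] :
    ∀ {l : List A}, (∀ x ∈ l, x ∈ Ideal.jacobson (⊥ : Ideal A)) → KR l →
      IsWeaklyRegular A l.reverse
  | [], _, _ => IsWeaklyRegular.nil A A
  | f :: l, hl, h => by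
    rw [List.reverse_cons, isWeaklyRegular_append_iff]
    refine ⟨isWeaklyRegular_reverse_of_kR (fun x hx => hl x (List.mem_cons_of_mem _ hx))
      (kR_tail (hl f List.mem_cons_self) h), ?_⟩
    rw [isWeaklyRegular_cons_iff]
    refine ⟨?_, IsWeaklyRegular.nil A _⟩
    rw [isSMulRegular_iff_right_eq_zero_of_smul]
    intro y hy
    obtain ⟨a, rfl⟩ := Submodule.Quotient.mk_surjective _ y
    rw [← Submodule.Quotient.mk_smul, Submodule.Quotient.mk_eq_zero] at hy
    rw [Submodule.Quotient.mk_eq_zero]
    simp only [Ideal.mul_top, smul_eq_mul,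
      ofList_perm (List.reverse_perm l)] at hy ⊢
    exact regular_of_ex f l (h (-1) (by omega)) a hy

/-- A Noetherian local ring is Gorenstein iff its quotient by a regular sequence is. -/
theorem gor_quotient_ofList_iff : ∀ (n : ℕ) (A : Type u) [CommRing A] [IsLocalRing A]
    [IsNoetherianRing A] (l : List A), l.length = n → (∀ x ∈ l, x ∈ maximalIdeal A) →
      IsWeaklyRegular A l →
      (LocCoh.IsGorensteinLocalRing A ↔ LocCoh.IsGorensteinLocalRing (A ⧸ Ideal.ofList l)) := by
  intro n
  induction n with
  | zero =>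
    intro A _ _ _ l hl _ _
    rw [List.length_eq_zero_iff] at hl
    subst hl
    exact gor_congr ((RingEquiv.quotientBot A).symm.trans
      (Ideal.quotEquivOfEq (Ideal.ofList_nil).symm))
  | succ n ih =>
    intro A _ _ _ l hl hm hr
    obtain ⟨x, t, rfl⟩ := List.exists_cons_of_length_eq_add_one hl
    obtain ⟨hx, ht⟩ := (isWeaklyRegular_cons_iff A x t).1 hr
    have hxm : x ∈ maximalIdeal A := hm x List.mem_cons_self
    have := isLocalRing_quotient hxm
    have ht' : IsWeaklyRegular (A ⧸ Ideal.span {x})
        (t.map (Ideal.Quotient.mk (Ideal.span {x}))) := by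
      refine (isWeaklyRegular_map_algebraMap_iff (A ⧸ Ideal.span {x}) _ t).2
        ((LinearEquiv.isWeaklyRegular_congr ?_ _).1 ht)
      exact Submodule.quotEquivOfEq _ (Ideal.span {x}) (by
        ext y
        simp [Submodule.mem_smul_pointwise_iff_exists, Ideal.mem_span_singleton, dvd_def,
          eq_comm])
    rw [gor_quotient_iff hxm hx, ih (A ⧸ Ideal.span {x}) _ (by simpa using hl) ?_ ht']
    · refine gor_congr (((Ideal.quotEquivOfEq ?_).trans
        (DoubleQuot.quotQuotEquivQuotSup (Ideal.span {x}) (Ideal.ofList t))).trans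
          (Ideal.quotEquivOfEq (Ideal.ofList_cons x t).symm))
      rw [Ideal.map_ofList]
    · intro y hy
      obtain ⟨z, hz, rfl⟩ := List.mem_map.1 hy
      have : maximalIdeal A ≤ (maximalIdeal (A ⧸ Ideal.span {x})).comap (Ideal.Quotient.mk _) :=
        (IsLocalRing.eq_maximalIdeal
          (Ideal.comap_isMaximal_of_surjective _ Ideal.Quotient.mk_surjective)).ge
      exact this (hm z (List.mem_cons_of_mem _ hz))

end Groth.Agent.Gor18
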