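import Groth.Agent.Gor18.Local
import Groth.Prelude.Def_Wider
import Mathlib.Algebra.Homology.DerivedCategory.Linear
import Mathlib.Algebra.Homology.DerivedCategory.FullyFaithful
import Mathlib.Algebra.Homology.DerivedCategory.TStructure

/-!
# `A[0]` is dualizing iff `A` is Gorenstein
-/

set_option autoImplicit false
set_option linter.unusedSectionVars false

universe u

open CategoryTheory Abelian

attribute [local instance] HasDerivedCategory.standard

namespace Groth.Agent.Gor18

variable {A : Type u} [CommRing A]

theorem subsingleton_hom_shift_neg_inD (M N : Type u) [AddCommGroup M] [Module A M]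
    [AddCommGroup N] [Module A N] (i : ℤ) (hi : i < 0) :
    Subsingleton (Dual.inD A M ⟶ (Dual.inD A N)⟦i⟧) := by
  have h : DerivedCategory.TStructure.t.IsGE ((Dual.inD A N)⟦i⟧) (-i) :=
    DerivedCategory.TStructure.t.isGE_shift _ 0 i (-i) (by omega)
  have h0 : ∀ f : Dual.inD A M ⟶ (Dual.inD A N)⟦i⟧, f = 0 := fun f =>
    DerivedCategory.TStructure.t.zero_of_isLE_of_isGE f 0 (-i) (by omega) inferInstance h
  exact ⟨fun f g => (h0 f).trans (h0 g).symm⟩

theorem subsingleton_ext_iff_hom (M N : Type u) [AddCommGroup M] [Module A M]
    [AddCommGroup N] [Module A N] (n : ℕ) :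
    Subsingleton (Ext (ModuleCat.of A M) (ModuleCat.of A N) n) ↔
      Subsingleton (Dual.inD A M ⟶ (Dual.inD A N)⟦(n : ℤ)⟧) :=
  Ext.homEquiv.subsingleton_congr

variable [IsLocalRing A] [IsNoetherianRing A]

theorem gor_iff_isDualizing :
    LocCoh.IsGorensteinLocalRing A ↔ Dual.IsDualizing A (Dual.inD A A) := by
  constructor
  · intro h
    obtain ⟨n, hn⟩ := h.exists_hasInjectiveDimensionLT
    refine ⟨inferInstance, ⟨0, n, fun M _ _ i hi => ?_⟩, fun i => ?_, ?_, fun i hi => ?_⟩
    · rcases hi with hi | hi
      · exact subsingleton_hom_shift_neg_inD M A i hi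
      · lift i to ℕ using by omega with m
        exact (subsingleton_ext_iff_hom M A m).1
          (HasInjectiveDimensionLT.subsingleton _ n m (by omega) _)
    · by_cases hi : i = 0
      · subst hi
        exact @Module.Finite.equiv _ _ _ _ _ _ _ _ (inferInstanceAs (Module.Finite A A))
          ((DerivedCategory.singleFunctorCompHomologyFunctorIso (ModuleCat.{u} A) 0).app
            (ModuleCat.of A A)).toLinearEquiv.symm
      · have : Subsingleton (Dual.HD A (Dual.inD A A) i) := ModuleCat.subsingleton_of_isZero <| by
          rcases lt_or_gt_of_ne hi with h | h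
          · exact DerivedCategory.isZero_of_isGE _ 0 i h
          · exact DerivedCategory.isZero_of_isLE _ 0 i h
        exact Module.Finite.of_surjective (0 : A →ₗ[A] Dual.HD A (Dual.inD A A) i)
          (fun y => ⟨0, Subsingleton.elim _ _⟩)
    · have he : Function.Bijective (fun a : A => a • 𝟙 (ModuleCat.of A A)) := by
        constructor
        · intro a b hab
          have := congrArg (fun f : ModuleCat.of A A ⟶ ModuleCat.of A A => f.hom 1) hab
          simpa using this
        · intro f
          refine ⟨f.hom 1, ?_⟩
          ext
          simp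
      have hF := (Functor.FullyFaithful.ofFullyFaithful
        (DerivedCategory.singleFunctor (ModuleCat.{u} A) 0)).map_bijective
          (ModuleCat.of A A) (ModuleCat.of A A)
      have heq : (fun a : A => a • 𝟙 (Dual.inD A A)) =
          (DerivedCategory.singleFunctor (ModuleCat.{u} A) 0).map ∘
            (fun a : A => a • 𝟙 (ModuleCat.of A A)) := by
        funext a
        simp [Functor.map_smul]
      rw [heq]
      exact hF.comp he
    · rcases lt_or_gt_of_ne hi with h | h
      · exact subsingleton_hom_shift_neg_inD A A i h
      · lift i to ℕ using h.le with m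
        obtain ⟨m, rfl⟩ := Nat.exists_eq_succ_of_ne_zero (by omega : m ≠ 0)
        have : Projective (ModuleCat.of A A) :=
          (IsProjective.iff_projective (R := A) A).1 inferInstance
        exact (subsingleton_ext_iff_hom A A (m + 1)).1
          (subsingleton_of_forall_eq 0 fun x => x.eq_zero_of_projective)
  · intro h
    obtain ⟨a, b, hab⟩ := h.finite_injective_dimension
    refine gor_iff_ext.2 ⟨b.toNat, fun i hi => ?_⟩
    exact (subsingleton_ext_iff_hom _ A i).2 (hab _ (i : ℤ) (Or.inr (by omega)))

end Groth.Agent.Gor18
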