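import Groth.Agent.Gor18.LocCohGor
import Groth.Agent.LC16.SopRegular
import Groth.Agent.InjHull18.Length
import Mathlib.RingTheory.Localization.Away.Basic

/-!
# The top Čech cohomology of a system of parameters is the injective hull
-/

set_option autoImplicit false
set_option linter.unusedSectionVars false
set_option linter.overlappingInstances false

universe u

open IsLocalRing RingTheory.Sequence

namespace Groth.Agent.Gor18

theorem exists_hull_of_length_le {A : Type u} [CommRing A] [IsLocalRing A] [IsNoetherianRing A]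
    {I : Type u} [AddCommGroup I] [Module A I]
    (ha : LocCoh.IsPowerTorsion (maximalIdeal A) I)
    (hs : IsSimpleModule A ↥(LocCoh.torsionBy (maximalIdeal A) I))
    (a : ℕ → Ideal A) (hcof : ∀ n : ℕ, ∃ N : ℕ, maximalIdeal A ^ N ≤ a n)
    (hcof' : ∀ N : ℕ, ∃ n : ℕ, a n ≤ maximalIdeal A ^ N)
    (hlen : ∀ n : ℕ, Module.length A (A ⧸ a n) ≤ Module.length A ↥(LocCoh.torsionBy (a n) I)) :
    ∃ f : ResidueField A →ₗ[A] I, InjHull.IsInjectiveHull f := by
  obtain ⟨F, _, _, φ, hφ⟩ := InjHull18.exists_hull A (A ⧸ maximalIdeal A)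
  obtain ⟨J, hJ, ⟨e'⟩⟩ := isSimpleModule_iff_quot_maximal.1 hs
  obtain rfl := IsLocalRing.eq_maximalIdeal hJ
  obtain ⟨g, hg⟩ := InjHull18.exists_extend hφ.isInjective (Submodule.subtype _)
    (Submodule.subtype_injective _) (φ ∘ₗ e'.toLinearMap)
  have hginj : Function.Injective g := InjHull18.injective_of_socle g ha fun x hx h0 => by
    have h1 : φ (e' ⟨x, hx⟩) = 0 := (LinearMap.congr_fun hg ⟨x, hx⟩).symm.trans h0
    exact congrArg Subtype.val ((LinearEquiv.map_eq_zero_iff e').1
      (hφ.injective (h1.trans (map_zero φ).symm)))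
  have hsurj : Function.Surjective g := by
    intro y
    obtain ⟨N, hN⟩ := InjHull18.isPowerTorsion_hull hφ y
    obtain ⟨n, hn⟩ := hcof' N
    obtain ⟨K, hK⟩ := hcof n
    have hfl : IsFiniteLength A (A ⧸ a n) := (InjHull18.isFiniteLength_quotient_pow K).of_surjective
      (f := Submodule.factor hK) (Submodule.factor_surjective hK)
    have hlen' : Module.length A ↥(LocCoh.torsionBy (a n) F) = Module.length A (A ⧸ a n) := by
      rw [← (InjHull18.homQuotientEquiv (a n) F).length_eq]
      exact InjHull18.length_linearMap hφ hfl (InjHull18.isPowerTorsion_of_isFiniteLength hfl)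
    obtain ⟨h1, h2⟩ := isFiniteLength_iff_isNoetherian_isArtinian.1 (Module.length_ne_top_iff.1
      (show Module.length A ↥(LocCoh.torsionBy (a n) F) ≠ ⊤ by
        rw [hlen']; exact Module.length_ne_top_iff.2 hfl))
    let Φ : ↥(LocCoh.torsionBy (a n) I) →ₗ[A] ↥(LocCoh.torsionBy (a n) F) :=
      g.restrict fun x hx => (Submodule.mem_torsionBySet_iff _ _).2 fun b => by
        rw [← map_smul, (Submodule.mem_torsionBySet_iff _ _).1 hx b, map_zero]
    have hΦ : Function.Injective Φ := fun u v h => Subtype.ext (hginj (congrArg Subtype.val h))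
    have htop : LinearMap.range Φ = ⊤ := by
      by_contra hne
      refine absurd (Submodule.length_lt hne) ?_
      rw [← (LinearEquiv.ofInjective Φ hΦ).length_eq, hlen']
      exact not_lt.2 (hlen n)
    obtain ⟨x, hx⟩ := LinearMap.range_eq_top.1 htop
      ⟨y, (Submodule.mem_torsionBySet_iff _ _).2 fun b => hN b.1 (hn b.2)⟩
    exact ⟨x, congrArg Subtype.val hx⟩
  exact ⟨_, InjHull18.hull_equiv_comp hφ (LinearEquiv.ofBijective g ⟨hginj, hsurj⟩).symm⟩

variable {R : Type u} [CommRing R] [LocCoh.IsGorensteinLocalRing R] {d : ℕ}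
  (hd : ringKrullDim R = d) {x : Fin d → R}
  (hx : (Ideal.span (Set.range x)).radical = maximalIdeal R)

include hx in
theorem radical_span_pow {e : Fin d → ℕ} (he : ∀ i, 0 < e i) :
    (Ideal.span (Set.range fun i => x i ^ e i)).radical = maximalIdeal R := by
  apply le_antisymm
  · rw [← hx]
    refine Ideal.radical_mono (Ideal.span_le.2 ?_)
    rintro _ ⟨i, rfl⟩
    exact Ideal.pow_mem_of_mem _ (Ideal.subset_span (Set.mem_range_self (f := x) i)) _ (he i)
  · rw [← hx, Ideal.radical_le_radical_iff]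
    refine Ideal.span_le.2 ?_
    rintro _ ⟨i, rfl⟩
    exact Ideal.mem_radical_iff.2 ⟨e i, Ideal.subset_span (Set.mem_range_self (f := fun j => x j ^ e j) i)⟩

include hd hx in
theorem mul_prod_mem_aux {n k : ℕ} (hn : 0 < n) (hk : 0 < k) (s : Finset (Fin d)) :
    ∀ r : R, r * ∏ i ∈ s, x i ^ k ∈
        Ideal.span (Set.range fun i => x i ^ (if i ∈ s then n + k else n)) →
      r ∈ Ideal.span (Set.range fun i => x i ^ n) := by
  classical
  have : LocCoh.IsCohenMacaulayLocalRing R := gor_cm R
  induction s using Finset.induction_on with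
  | empty => intro r hr; simpa using hr
  | @insert j s hj ih =>
    intro r hr
    apply ih
    let e : Fin d → ℕ := fun i => if i ∈ s then n + k else n
    let a : Fin d → R := fun i => x i ^ (if i = j then k else e i)
    have hej : e j = n := if_neg hj
    have hins : Set.range (fun i => x i ^ (if i ∈ insert j s then n + k else n)) =
        insert (x j ^ (n + k)) (a '' {i | i ≠ j}) := by
      ext y
      simp only [Set.mem_range, Set.mem_insert_iff, Set.mem_image, Set.mem_setOf_eq, a, e]
      constructor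
      · rintro ⟨i, rfl⟩
        by_cases hi : i = j
        · subst hi; simp
        · exact Or.inr ⟨i, hi, by simp [hi]⟩
      · rintro (rfl | ⟨i, hi, rfl⟩)
        · exact ⟨j, by simp⟩
        · exact ⟨i, by simp [hi]⟩
    rw [hins, Ideal.mem_span_insert] at hr
    obtain ⟨c, z, hz, hrz⟩ := hr
    rw [Finset.prod_insert hj] at hrz
    have hmem := LC16.sop_cancel hd a (radical_span_pow hx fun i => by
      by_cases hi : i = j
      · simp [hi, hk]
      · simp only [hi, if_false, e]; split_ifs <;> omega) j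
      (z := r * ∏ i ∈ s, x i ^ k - c * x j ^ n) (by
        have : (r * ∏ i ∈ s, x i ^ k - c * x j ^ n) * a j = z := by
          simp only [a, if_true]
          linear_combination hrz
        rw [this]
        exact hz)
    have hsub : Ideal.span (a '' {i | i ≠ j}) ≤ Ideal.span (Set.range fun i => x i ^ e i) := by
      refine Ideal.span_le.2 ?_
      rintro _ ⟨i, hi, rfl⟩
      exact Ideal.subset_span ⟨i, by simp [a, show i ≠ j from hi]⟩
    have hxj : x j ^ n ∈ Ideal.span (Set.range fun i => x i ^ e i) :=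
      Ideal.subset_span ⟨j, by simp [hej]⟩
    simpa [e] using add_mem (hsub hmem) (Ideal.mul_mem_left _ c hxj)

/-- `(x₁ⁿ, …, x_dⁿ)` -/
def powIdeal (x : Fin d → R) (n : ℕ) : Ideal R := Ideal.span (Set.range fun i => x i ^ n)

theorem powIdeal_succ_pow_le (n : ℕ) (i : Fin d) : x i ^ n ∈ powIdeal x n :=
  Ideal.subset_span ⟨i, rfl⟩

theorem mul_prod_pow_mem (n k : ℕ) {c : R} (hc : c ∈ powIdeal x n) :
    c * (∏ i, x i) ^ k ∈ powIdeal x (n + k) := by
  classical
  induction hc using Submodule.span_induction with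
  | mem y hy =>
    obtain ⟨i, rfl⟩ := hy
    rw [← Finset.prod_pow, ← Finset.mul_prod_erase _ _ (Finset.mem_univ i), ← mul_assoc, ← pow_add]
    exact Ideal.mul_mem_right _ _ (powIdeal_succ_pow_le _ i)
  | zero => simp
  | add y z _ _ hy hz => rw [add_mul]; exact add_mem hy hz
  | smul r y _ hy => rw [smul_eq_mul, mul_assoc]; exact Ideal.mul_mem_left _ r hy

include hd hx in
theorem mem_of_mul_prod_pow_mem (n k : ℕ) {r : R} (h : r * (∏ i, x i) ^ k ∈ powIdeal x (n + k)) :
    r ∈ powIdeal x n := by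
  rcases Nat.eq_zero_or_pos k with rfl | hk
  · simpa using h
  rcases Nat.eq_zero_or_pos n with rfl | hn
  · rcases Nat.eq_zero_or_pos d with rfl | hd0
    · have : (∏ i, x i) = 1 := by simp
      simpa [powIdeal, this] using h
    · exact (Ideal.eq_top_iff_one _).2 (by
        simpa using powIdeal_succ_pow_le (x := x) 0 ⟨0, hd0⟩) ▸ Submodule.mem_top
  · refine mul_prod_mem_aux hd hx hn hk Finset.univ r ?_
    simpa [powIdeal, Finset.prod_pow] using h

include hx in
theorem exists_pow_le_powIdeal (n : ℕ) : ∃ N : ℕ, maximalIdeal R ^ N ≤ powIdeal x n := by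
  rcases Nat.eq_zero_or_pos n with rfl | hn
  · rcases Nat.eq_zero_or_pos d with rfl | hd0
    · exact Ideal.exists_pow_le_of_le_radical_of_fg (by
        rw [← hx]; exact Ideal.radical_mono (by simp [powIdeal])) (IsNoetherian.noetherian _)
    · exact ⟨0, ((Ideal.eq_top_iff_one _).2 (by
        simpa using powIdeal_succ_pow_le (x := x) 0 ⟨0, hd0⟩)).ge.trans' le_top⟩
  exact Ideal.exists_pow_le_of_le_radical_of_fg
    (radical_span_pow hx (fun _ => hn)).ge (IsNoetherian.noetherian _)

include hd hx in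
/-- The socle of `R/(xⁿ)` is generated by any of its nonzero elements. -/
theorem exists_smul_eq_of_socle {n : ℕ} {y z : R ⧸ powIdeal x n}
    (hy : y ∈ LocCoh.torsionBy (maximalIdeal R) (R ⧸ powIdeal x n)) (hy0 : y ≠ 0)
    (hz : z ∈ LocCoh.torsionBy (maximalIdeal R) (R ⧸ powIdeal x n)) : ∃ a : R, a • y = z := by
  classical
  have hne : powIdeal x n ≠ ⊤ := fun h => hy0 (by
    have := Ideal.Quotient.subsingleton_iff.2 h
    exact Subsingleton.elim _ _)
  have : Nontrivial (R ⧸ powIdeal x n) := Ideal.Quotient.nontrivial_iff.2 hne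
  have : IsLocalRing (R ⧸ powIdeal x n) :=
    IsLocalRing.of_surjective' _ Ideal.Quotient.mk_surjective
  have : LocCoh.IsGorensteinLocalRing (R ⧸ powIdeal x n) ∧ IsArtinianRing (R ⧸ powIdeal x n) := by
    have hJ : powIdeal x n ≤ maximalIdeal R := IsLocalRing.le_maximalIdeal hne
    let l := List.ofFn fun i => x i ^ n
    have hl : Ideal.ofList l = powIdeal x n := by
      simp only [l, powIdeal, Ideal.ofList]
      congr 1
      ext w
      simp [List.mem_ofFn]
    obtain ⟨rs, hlen, hrm, hrr⟩ := exists_regular_sequence_of_gor d R hd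
    have hm : ∀ b ∈ l, b ∈ maximalIdeal R := fun b hb => hJ (hl ▸ Ideal.subset_span hb)
    have hreg : IsWeaklyRegular R l := by
      refine LC16.isWeaklyRegular_of_le_radical rs l (isRegular_of_mem_maximal hrm hrr) hrm
        (by simp [l, hlen]) hm ?_
      obtain ⟨N, hN⟩ := exists_pow_le_powIdeal hx n
      rw [hl]
      exact fun a ha => ⟨N, Ideal.mem_sup_right (hN (Ideal.pow_mem_pow ha N))⟩
    refine ⟨?_, ?_⟩
    · exact (gor_congr (Ideal.quotEquivOfEq hl)).1
        ((gor_quotient_ofList_iff _ R l rfl hm hreg).1 inferInstance)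
    · have h0 := krullDimLE_zero_quotient hd (rs := l) (by simp [l]) hm hreg
      rw [hl] at h0
      have : Ring.KrullDimLE 0 (R ⧸ powIdeal x n) := Ring.krullDimLE_iff.2 h0.le
      exact isArtinianRing_iff_krullDimLE_zero.2 this
  obtain ⟨_, _⟩ := this
  have := (artinian_gor_iff_simple_socle (A := R ⧸ powIdeal x n)).1 inferInstance
  have hJ : powIdeal x n ≤ maximalIdeal R := IsLocalRing.le_maximalIdeal hne
  obtain ⟨r, hr⟩ := Submodule.mem_span_singleton.1
    ((IsSimpleModule.span_singleton_eq_top (R ⧸ powIdeal x n)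
      (m := (⟨y, (mem_socle_quotient hJ y).1 hy⟩ : ↥(LocCoh.torsionBy _ (R ⧸ powIdeal x n))))
      (fun h => hy0 (congrArg Subtype.val h))).ge
        (Submodule.mem_top (x := (⟨z, (mem_socle_quotient hJ z).1 hz⟩ :
          ↥(LocCoh.torsionBy (maximalIdeal (R ⧸ powIdeal x n)) (R ⧸ powIdeal x n))))))
  obtain ⟨a, rfl⟩ := Ideal.Quotient.mk_surjective r
  refine ⟨a, ?_⟩
  rw [← algebraMap_smul (R ⧸ powIdeal x n) a y]
  exact congrArg Subtype.val hr

/-- The submodule of `R_t` whose quotient is the top Čech cohomology. -/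
def cechImage (x : Fin d → R) : Submodule R (Localization.Away (∏ i, x i)) :=
  Submodule.span R {y : Localization.Away (∏ i, x i) | ∃ (i : Fin d) (n : ℕ),
    y = algebraMap R (Localization.Away (∏ i, x i)) (x i ^ n) *
      IsLocalization.Away.invSelf (∏ i, x i) ^ n}

variable (x) in
/-- `r ↦ r / tⁿ`. -/
noncomputable def frac (n : ℕ) : R →ₗ[R] Localization.Away (∏ i, x i) ⧸ cechImage x :=
  (cechImage x).mkQ ∘ₗ
    LinearMap.toSpanSingleton R _ (IsLocalization.Away.invSelf (∏ i, x i) ^ n)

theorem algebraMap_pow_mul_inv (k : ℕ) :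
    algebraMap R (Localization.Away (∏ i, x i)) ((∏ i, x i) ^ k) *
      IsLocalization.Away.invSelf (∏ i, x i) ^ k = 1 := by
  rw [map_pow, ← mul_pow, IsLocalization.Away.mul_invSelf, one_pow]

theorem mul_inv_shift (r : R) (n k : ℕ) :
    algebraMap R (Localization.Away (∏ i, x i)) (r * (∏ i, x i) ^ k) *
      IsLocalization.Away.invSelf (∏ i, x i) ^ (n + k) =
      algebraMap R _ r * IsLocalization.Away.invSelf (∏ i, x i) ^ n := by
  rw [map_mul, pow_add, mul_mul_mul_comm, algebraMap_pow_mul_inv, mul_one]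

theorem frac_shift (r : R) (n k : ℕ) : frac x (n + k) (r * (∏ i, x i) ^ k) = frac x n r := by
  simp only [frac, LinearMap.comp_apply, LinearMap.toSpanSingleton_apply, Algebra.smul_def,
    mul_inv_shift]

theorem exists_frac_eq (y : Localization.Away (∏ i, x i) ⧸ cechImage x) :
    ∃ (n : ℕ) (r : R), frac x n r = y := by
  obtain ⟨s, rfl⟩ := Submodule.mkQ_surjective _ y
  obtain ⟨m, a, hm⟩ := IsLocalization.Away.surj (∏ i, x i) s
  refine ⟨m, a, ?_⟩
  show (cechImage x).mkQ _ = (cechImage x).mkQ s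
  congr 1
  rw [LinearMap.toSpanSingleton_apply, Algebra.smul_def, ← hm, mul_assoc, ← mul_pow,
    IsLocalization.Away.mul_invSelf, one_pow, mul_one]

theorem exists_num_of_mem_cechImage {s : Localization.Away (∏ i, x i)} (hs : s ∈ cechImage x) :
    ∃ (m : ℕ) (c : R), c ∈ powIdeal x m ∧
      s = algebraMap R _ c * IsLocalization.Away.invSelf (∏ i, x i) ^ m := by
  induction hs using Submodule.span_induction with
  | mem s hs =>
    obtain ⟨i, n, rfl⟩ := hs
    exact ⟨n, _, powIdeal_succ_pow_le n i, rfl⟩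
  | zero => exact ⟨0, 0, zero_mem _, by simp⟩
  | add s s' _ _ hs hs' =>
    obtain ⟨m, c, hc, rfl⟩ := hs
    obtain ⟨m', c', hc', rfl⟩ := hs'
    refine ⟨m + m', c * (∏ i, x i) ^ m' + c' * (∏ i, x i) ^ m,
      add_mem (mul_prod_pow_mem m m' hc) (add_comm m' m ▸ mul_prod_pow_mem m' m hc'), ?_⟩
    rw [map_add, add_mul, mul_inv_shift, add_comm m m', mul_inv_shift]
  | smul r s _ hs =>
    obtain ⟨m, c, hc, rfl⟩ := hs
    exact ⟨m, r * c, Ideal.mul_mem_left _ r hc, by rw [Algebra.smul_def, map_mul, mul_assoc]⟩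

include hd hx in
theorem ker_frac (n : ℕ) : LinearMap.ker (frac x n) = powIdeal x n := by
  ext r
  simp only [LinearMap.mem_ker, frac, LinearMap.comp_apply, Submodule.mkQ_apply,
    Submodule.Quotient.mk_eq_zero, LinearMap.toSpanSingleton_apply, Algebra.smul_def]
  constructor
  · intro h
    obtain ⟨m, c, hc, hrc⟩ := exists_num_of_mem_cechImage h
    have h2 : algebraMap R (Localization.Away (∏ i, x i)) (r * (∏ i, x i) ^ m) =
        algebraMap R _ (c * (∏ i, x i) ^ n) := by
      have hu : IsUnit (IsLocalization.Away.invSelf (S := Localization.Away (∏ i, x i))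
          (∏ i, x i) ^ (n + m)) :=
        (IsUnit.of_mul_eq_one_right _ (IsLocalization.Away.mul_invSelf _)).pow _
      refine hu.mul_left_inj.1 ?_
      rw [mul_inv_shift, add_comm n m, mul_inv_shift, hrc]
    obtain ⟨⟨_, s, rfl⟩, hs⟩ := (IsLocalization.eq_iff_exists
      (Submonoid.powers (∏ i, x i)) (Localization.Away (∏ i, x i))).1 h2
    refine mem_of_mul_prod_pow_mem hd hx n (m + s) ?_
    have h3 : r * (∏ i, x i) ^ (m + s) = c * (∏ i, x i) ^ (n + s) := by
      simp only at hs
      rw [pow_add, pow_add]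
      linear_combination hs
    rw [h3, show n + (m + s) = m + (n + s) by omega]
    exact mul_prod_pow_mem m (n + s) hc
  · intro h
    induction h using Submodule.span_induction with
    | mem y hy =>
      obtain ⟨i, rfl⟩ := hy
      exact Submodule.subset_span ⟨i, n, rfl⟩
    | zero => simp
    | add y z _ _ hy hz => rw [map_add, add_mul]; exact add_mem hy hz
    | smul a y _ hy =>
      rw [smul_eq_mul, map_mul, mul_assoc, ← Algebra.smul_def]
      exact Submodule.smul_mem _ a hy

include hd hx in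
theorem frac_mk_injective (n : ℕ) :
    Function.Injective ((powIdeal x n).liftQ (frac x n) (ker_frac hd hx n).ge) :=
  LinearMap.ker_eq_bot.1 (Submodule.ker_liftQ_eq_bot _ _ _ (ker_frac hd hx n).le)

include hd hx in
theorem exists_hull_cech :
    ∃ f : ResidueField R →ₗ[R] (Localization.Away (∏ i, x i) ⧸ cechImage x),
      InjHull.IsInjectiveHull f := by
  have htor : LocCoh.IsPowerTorsion (maximalIdeal R)
      (Localization.Away (∏ i, x i) ⧸ cechImage x) := fun y => by
    obtain ⟨n, r, rfl⟩ := exists_frac_eq y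
    obtain ⟨N, hN⟩ := exists_pow_le_powIdeal hx n
    refine ⟨N, fun a ha => ?_⟩
    rw [← map_smul, ← LinearMap.mem_ker, ker_frac hd hx]
    exact Ideal.mul_mem_right _ _ (hN ha)
  have : IsSimpleModule R ↥(LocCoh.torsionBy (maximalIdeal R)
      (Localization.Away (∏ i, x i) ⧸ cechImage x)) := by
    have h1 : powIdeal x 1 ≤ maximalIdeal R := Ideal.span_le.2 fun _ ⟨i, hi⟩ => hi ▸ by
      simp only [pow_one]
      exact hx ▸ Ideal.le_radical (Ideal.subset_span ⟨i, rfl⟩)
    have hone : (Ideal.Quotient.mk (powIdeal x 1) 1) ≠ 0 := fun h =>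
      (maximalIdeal.isMaximal R).ne_top ((Ideal.eq_top_iff_one _).2
        (h1 (Ideal.Quotient.eq_zero_iff_mem.1 h)))
    obtain ⟨r₀, hr₀, hr₀0⟩ := InjHull18.exists_socle_smul (m := maximalIdeal R) hone (by
      obtain ⟨N, hN⟩ := exists_pow_le_powIdeal hx 1
      refine ⟨N, fun a ha => ?_⟩
      rw [← algebraMap_smul (R ⧸ powIdeal x 1) a, Ideal.Quotient.algebraMap_eq,
        Ideal.Quotient.eq_zero_iff_mem.2 (hN ha), zero_smul])
    let L := fun n => (powIdeal x n).liftQ (frac x n) (ker_frac hd hx n).ge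
    let y₀ : R ⧸ powIdeal x 1 := r₀ • Ideal.Quotient.mk (powIdeal x 1) 1
    have hL : ∀ n (y : R ⧸ powIdeal x n), L n y ∈ LocCoh.torsionBy (maximalIdeal R)
        (Localization.Away (∏ i, x i) ⧸ cechImage x) ↔
        y ∈ LocCoh.torsionBy (maximalIdeal R) (R ⧸ powIdeal x n) := fun n y => by
      simp only [Submodule.mem_torsionBySet_iff, ← map_smul]
      exact forall_congr' fun a => map_eq_zero_iff _ (frac_mk_injective hd hx n)
    have hL0 : L 1 y₀ ≠ 0 := fun h => hr₀0 ((map_eq_zero_iff _ (frac_mk_injective hd hx 1)).1 h)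
    have : Nontrivial ↥(LocCoh.torsionBy (maximalIdeal R)
        (Localization.Away (∏ i, x i) ⧸ cechImage x)) :=
      ⟨⟨⟨L 1 y₀, (hL 1 y₀).2 hr₀⟩, 0, fun h => hL0 (congrArg Subtype.val h)⟩⟩
    have key : ∀ z ∈ LocCoh.torsionBy (maximalIdeal R)
        (Localization.Away (∏ i, x i) ⧸ cechImage x), ∃ a : R, a • L 1 y₀ = z := by
      intro z hz
      obtain ⟨n, r, rfl⟩ := exists_frac_eq z
      obtain ⟨b, hb⟩ := Ideal.Quotient.mk_surjective y₀
      have e1 : L (1 + n) (Ideal.Quotient.mk _ (b * (∏ i, x i) ^ n)) = L 1 y₀ := by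
        rw [← hb]; exact frac_shift b 1 n
      have e2 : L (1 + n) (Ideal.Quotient.mk _ (r * (∏ i, x i) ^ 1)) = frac x n r := by
        refine (show L (1 + n) (Ideal.Quotient.mk _ (r * (∏ i, x i) ^ 1)) =
          frac x (1 + n) (r * (∏ i, x i) ^ 1) from rfl).trans ?_
        rw [add_comm 1 n]; exact frac_shift r n 1
      obtain ⟨a, ha⟩ := exists_smul_eq_of_socle hd hx
        (y := Ideal.Quotient.mk (powIdeal x (1 + n)) (b * (∏ i, x i) ^ n))
        (z := Ideal.Quotient.mk (powIdeal x (1 + n)) (r * (∏ i, x i) ^ 1))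
        ((hL _ _).1 (e1 ▸ (hL 1 y₀).2 hr₀)) (fun h => hL0 (by rw [← e1, h, map_zero]))
        ((hL _ _).1 (e2 ▸ hz))
      exact ⟨a, by rw [← e1, ← map_smul, ha, e2]⟩
    rw [isSimpleModule_iff_toSpanSingleton_surjective]
    refine ⟨inferInstance, fun v hv w => ?_⟩
    obtain ⟨a, ha⟩ := key v.1 v.2
    obtain ⟨c, hc⟩ := key w.1 w.2
    have hau : IsUnit a := by
      by_contra h
      refine hv (Subtype.ext (ha.symm.trans ?_))
      exact (Submodule.mem_torsionBySet_iff _ _).1 ((hL 1 y₀).2 hr₀) ⟨a, h⟩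
    refine ⟨c * ↑hau.unit⁻¹, Subtype.ext ?_⟩
    show (c * ↑hau.unit⁻¹) • v.1 = w.1
    rw [← ha, smul_smul, mul_assoc, IsUnit.val_inv_mul, mul_one, hc]
  refine exists_hull_of_length_le htor this (powIdeal x) (exists_pow_le_powIdeal hx) (fun N => ?_)
    fun n => ?_
  · refine ⟨N, Ideal.span_le.2 ?_⟩
    rintro _ ⟨i, rfl⟩
    exact Ideal.pow_mem_pow (hx ▸ Ideal.le_radical (Ideal.subset_span ⟨i, rfl⟩)) N
  · refine Module.length_le_of_injective
      (((powIdeal x n).liftQ (frac x n) (ker_frac hd hx n).ge).codRestrict _ fun y =>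
        (Submodule.mem_torsionBySet_iff _ _).2 fun a => ?_)
      fun y z h => frac_mk_injective hd hx n (congrArg Subtype.val h)
    rw [← map_smul, ← algebraMap_smul (R ⧸ powIdeal x n) (a : R) y, Ideal.Quotient.algebraMap_eq,
      Ideal.Quotient.eq_zero_iff_mem.2 a.2, zero_smul, map_zero]

end Groth.Agent.Gor18
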