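import Groth.Agent.Gor18.Local
import Mathlib.Algebra.Homology.DerivedCategory.Ext.Linear

/-!
# The `Ext^i(k, A)` pattern of a Gorenstein local ring
-/

set_option autoImplicit false
set_option linter.unusedSectionVars false
set_option linter.overlappingInstances false

universe u

open CategoryTheory Abelian IsLocalRing

namespace Groth.Agent.Gor18

variable {A : Type u} [CommRing A]

theorem smul_ext_eq_zero {N M : ModuleCat.{u} A} {a : A} (h : ∀ n : N, a • n = 0) {i : ℕ}
    (e : Ext N M i) : a • e = 0 := by
  have h1 : a • (𝟙 N) = 0 := by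
    ext n
    exact h n
  calc a • e = (Ext.mk₀ (a • (𝟙 N))).comp e (zero_add i) := by
        rw [Ext.mk₀_smul, Ext.smul_comp, Ext.mk₀_id_comp]
    _ = 0 := by rw [h1, Ext.mk₀_zero, Ext.zero_comp]

variable [IsLocalRing A]

theorem subsingleton_ext_zero_iff (M : Type u) [AddCommGroup M] [Module A M] :
    Subsingleton (Ext (ModuleCat.of A (ResidueField A)) (ModuleCat.of A M) 0) ↔
      LocCoh.torsionBy (maximalIdeal A) M = ⊥ := by
  have e : Ext (ModuleCat.of A (ResidueField A)) (ModuleCat.of A M) 0 ≃
      LocCoh.torsionBy (maximalIdeal A) M :=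
    (Ext.homEquiv₀.trans ModuleCat.homEquiv).trans
      (InjHull18.homQuotientEquiv (maximalIdeal A) M).toEquiv
  rw [e.subsingleton_congr, Submodule.subsingleton_iff_eq_bot]

variable [IsNoetherianRing A] {x : A}

theorem subsingleton_ext_one_iff_quotient (hx : x ∈ maximalIdeal A) (hreg : IsSMulRegular A x) :
    Subsingleton (Ext (ModuleCat.of A (ResidueField A)) (ModuleCat.of A A) 1) ↔
      LocCoh.torsionBy (maximalIdeal A) (A ⧸ Ideal.span {x}) = ⊥ := by
  let f : A →ₗ[A] A := LinearMap.mulLeft A x
  let g : A →ₗ[A] A ⧸ Ideal.span {x} := Submodule.mkQ _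
  have hf : Function.Injective f := fun a b hab => hreg hab
  have hfg : Function.Exact f g := fun y => by
    simp only [g, Submodule.mkQ_apply, Submodule.Quotient.mk_eq_zero, Ideal.mem_span_singleton',
      Set.mem_range, f, LinearMap.mulLeft_apply, mul_comm x]
  have hS := shortExact_of hf hfg (Submodule.mkQ_surjective _)
  let k := ModuleCat.of A (ResidueField A)
  have hk : ∀ z : k, x • z = 0 := fun z => by
    obtain ⟨r, rfl⟩ := residue_surjective z
    show x • residue A r = 0
    rw [Algebra.smul_def, ResidueField.algebraMap_eq, (residue_eq_zero_iff x).2 hx, zero_mul]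
  have h0 : Subsingleton (Ext k (ModuleCat.of A A) 0) :=
    (subsingleton_ext_zero_iff A).2 (socle_eq_bot_iff_exists_regular.2 ⟨x, hx, hreg⟩)
  rw [← subsingleton_ext_zero_iff]
  constructor
  · intro h1
    refine subsingleton_of_forall_eq 0 fun e => ?_
    obtain ⟨e', rfl⟩ := Ext.covariant_sequence_exact₃ k hS e (rfl : 0 + 1 = 1) (h1.elim _ _)
    rw [h0.elim e' 0, Ext.zero_comp]
  · intro h1
    refine subsingleton_of_forall_eq 0 fun e => ?_
    obtain ⟨e', rfl⟩ := Ext.covariant_sequence_exact₁ k hS e (by
      have hm : ModuleCat.ofHom f = x • 𝟙 (ModuleCat.of A A) := by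
        ext; simp [f]
      show e.comp (Ext.mk₀ (ModuleCat.ofHom f)) (add_zero 1) = 0
      rw [hm, Ext.mk₀_smul, Ext.comp_smul, Ext.comp_mk₀_id]
      exact smul_ext_eq_zero hk e) (rfl : 0 + 1 = 1)
    rw [h1.elim e' 0, Ext.zero_comp]

/-- For a Gorenstein local ring `Ext^i(k, A)` vanishes exactly off the dimension. -/
theorem ext_pattern (n : ℕ) : ∀ (A : Type u) [CommRing A] [LocCoh.IsGorensteinLocalRing A],
    ringKrullDim A = n → ∀ i : ℕ,
      (Subsingleton (Ext (ModuleCat.of A (ResidueField A)) (ModuleCat.of A A) i) ↔ i ≠ n) := by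
  induction n with
  | zero =>
    intro A _ _ hdim i
    have : Ring.KrullDimLE 0 A := Ring.krullDimLE_iff.2 hdim.le
    have : IsArtinianRing A := isArtinianRing_iff_krullDimLE_zero.2 this
    have hs := socle_ne_bot_of_isArtinianRing (A := A)
    have : Injective (ModuleCat.of A A) :=
      Module.injective_object_of_injective_module (inj := injective_of_socle_ne_bot hs) A A
    rcases i with _ | i
    · simp only [ne_eq, not_true, iff_false, subsingleton_ext_zero_iff]
      exact hs
    · exact ⟨fun _ => Nat.succ_ne_zero i, fun _ =>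
        subsingleton_of_forall_eq 0 fun e => e.eq_zero_of_injective⟩
  | succ n ih =>
    intro A _ _ hdim i
    have h0 : LocCoh.torsionBy (maximalIdeal A) A = ⊥ := by
      by_contra h
      have := isArtinianRing_of_socle_ne_bot h
      have h1 : ringKrullDim A = 0 := le_antisymm (Ring.krullDimLE_iff.1 inferInstance)
        ringKrullDim_nonneg_of_nontrivial
      rw [hdim, Nat.cast_succ] at h1
      norm_cast at h1
    obtain ⟨x, hx, hreg⟩ := socle_eq_bot_iff_exists_regular.1 h0
    have := isLocalRing_quotient hx
    have : LocCoh.IsGorensteinLocalRing (A ⧸ Ideal.span {x}) :=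
      (gor_quotient_iff hx hreg).1 inferInstance
    have hdim' : ringKrullDim (A ⧸ Ideal.span {x}) = n := by
      have h1 := ringKrullDim_quotient_span_singleton_succ_eq_ringKrullDim hreg hx
      rw [hdim, Nat.cast_succ] at h1
      exact exists_regular_sequence_of_gor.ringKrullDim_add_one_cancel h1
    rcases i with _ | _ | i
    · simp only [ne_eq, Nat.right_eq_add, Nat.add_eq_zero_iff, one_ne_zero, and_false,
        not_false_eq_true, iff_true]
      exact (subsingleton_ext_zero_iff A).2 h0
    · rw [subsingleton_ext_one_iff_quotient hx hreg]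
      have key : LocCoh.torsionBy (maximalIdeal A) (A ⧸ Ideal.span {x}) = ⊥ ↔
          LocCoh.torsionBy (maximalIdeal (A ⧸ Ideal.span {x})) (A ⧸ Ideal.span {x}) = ⊥ := by
        have hmax : (maximalIdeal A).map (Ideal.Quotient.mk (Ideal.span {x})) =
            maximalIdeal (A ⧸ Ideal.span {x}) := by
          refine IsLocalRing.eq_maximalIdeal ?_
          exact Ideal.map_eq_top_or_isMaximal_of_surjective _ Ideal.Quotient.mk_surjective
            (maximalIdeal.isMaximal A) |>.resolve_left (by
              intro h
              have := congrArg (Ideal.comap (Ideal.Quotient.mk (Ideal.span {x}))) h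
              rw [Ideal.comap_map_of_surjective _ Ideal.Quotient.mk_surjective, ← RingHom.ker_eq_comap_bot,
                Ideal.mk_ker, sup_eq_left.2 ((Ideal.span_singleton_le_iff_mem _).2 hx),
                Ideal.comap_top] at this
              exact (maximalIdeal.isMaximal A).ne_top this)
        simp only [Submodule.eq_bot_iff]
        refine forall_congr' fun y => imp_congr_left ?_
        simp only [Submodule.mem_torsionBySet_iff, Subtype.forall, SetLike.mem_coe, ← hmax,
          Ideal.mem_map_iff_of_surjective _ Ideal.Quotient.mk_surjective, forall_exists_index,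
          and_imp, forall_apply_eq_imp_iff₂]
        exact forall₂_congr fun a _ => by
          rw [← Ideal.Quotient.algebraMap_eq, algebraMap_smul]
      rw [key, ← subsingleton_ext_zero_iff, ih _ hdim' 0]
      omega
    · rw [ext_residueField_iff hx hreg, ih _ hdim' (i + 1)]
      omega

end Groth.Agent.Gor18
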