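import Groth.Agent.Gor18.ExtShift
import Groth.Agent.InjHull18.Change

/-!
# Ext modulo a regular element
-/

universe u

open CategoryTheory Abelian

namespace Groth.Agent.Gor18

variable {R : Type u} [CommRing R] (x : R)

/-- The part killed by `x`. -/
abbrev tors (C : Type u) [AddCommGroup C] [Module R C] : Submodule R C :=
  LocCoh.torsionBy (Ideal.span {x}) C

variable {x} {C D : Type u} [AddCommGroup C] [Module R C] [AddCommGroup D] [Module R D]

theorem mem_tors {c : C} : c ∈ tors x C ↔ x • c = 0 := by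
  rw [Submodule.mem_torsionBySet_iff]
  refine ⟨fun h => h ⟨x, Ideal.mem_span_singleton_self x⟩, fun h ⟨a, ha⟩ => ?_⟩
  obtain ⟨b, rfl⟩ := Ideal.mem_span_singleton'.1 ha
  show (b * x) • c = 0
  rw [mul_smul, h, smul_zero]

variable (x) in
/-- The map induced on `x`-torsion. -/
noncomputable def torsMap (f : C →ₗ[R] D) : tors x C →ₗ[R ⧸ Ideal.span {x}] tors x D :=
  LinearMap.extendScalarsOfSurjective Ideal.Quotient.mk_surjective
    (f.restrict fun c hc => mem_tors.2 (by rw [← map_smul, mem_tors.1 hc, map_zero]))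

@[simp]
theorem coe_torsMap (f : C →ₗ[R] D) (c : tors x C) : (torsMap x f c : D) = f c := rfl

theorem injective_tors (hC : Module.Injective R C) :
    Module.Injective (R ⧸ Ideal.span {x}) ↥(tors x C) :=
  InjHull18.injective_torsionBySet hC _

theorem smul_surjective_of_injective (hx : IsSMulRegular R x) (hC : Module.Injective R C) :
    Function.Surjective fun c : C => x • c := by
  intro c
  obtain ⟨h, hh⟩ := hC.out (LinearMap.toSpanSingleton R R x)
    (fun a b hab => hx (by simpa [mul_comm] using hab)) (LinearMap.toSpanSingleton R C c)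
  refine ⟨h 1, ?_⟩
  show x • h 1 = c
  simpa [← map_smul] using hh 1

/-- `Ext` into a divisible module and `Ext` over the quotient into its torsion vanish together. -/
theorem subsingleton_ext_iff_tors (hx : IsSMulRegular R x) (n : ℕ) :
    ∀ (C : Type u) [AddCommGroup C] [Module R C], Function.Surjective (fun c : C => x • c) →
      ∀ (N : Type u) [AddCommGroup N] [Module R N] [Module (R ⧸ Ideal.span {x}) N]
        [IsScalarTower R (R ⧸ Ideal.span {x}) N],
        (Subsingleton (Ext (ModuleCat.of R N) (ModuleCat.of R C) (n + 1)) ↔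
          Subsingleton (Ext (ModuleCat.of (R ⧸ Ideal.span {x}) N)
            (ModuleCat.of (R ⧸ Ideal.span {x}) ↥(tors x C)) (n + 1))) := by
  induction n with
  | zero =>
    intro C _ _ hdiv N _ _ _ _
    obtain ⟨J, _, _, f, hJ, hf⟩ := InjHull18.exists_injective_embedding R C
    let g := (LinearMap.range f).mkQ
    have hfg : Function.Exact f g := LinearMap.exact_map_mkQ_range f
    have hg : Function.Surjective g := Submodule.mkQ_surjective _
    have hS := shortExact_of hf hfg hg
    have hfg' : Function.Exact (torsMap x f) (torsMap x g) := fun y => by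
      refine ⟨fun h => ?_, ?_⟩
      · obtain ⟨c, hc⟩ := (hfg y.1).1 (congrArg Subtype.val h)
        exact ⟨⟨c, mem_tors.2 (hf (by rw [map_smul, hc, mem_tors.1 y.2, map_zero]))⟩, Subtype.ext hc⟩
      · rintro ⟨c, rfl⟩
        exact Subtype.ext (hfg.apply_apply_eq_zero c.1)
    have hg' : Function.Surjective (torsMap x g) := fun y => by
      obtain ⟨i, hi⟩ := hg y.1
      obtain ⟨c', hc'⟩ := (hfg (x • i)).1 (by rw [map_smul, hi, mem_tors.1 y.2])
      obtain ⟨c, rfl⟩ := hdiv c'
      refine ⟨⟨i - f c, mem_tors.2 ?_⟩, Subtype.ext ?_⟩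
      · rw [smul_sub, ← map_smul]; exact sub_eq_zero.2 hc'.symm
      · show g (i - f c) = y.1
        rw [map_sub, hfg.apply_apply_eq_zero, sub_zero, hi]
    have hS' := shortExact_of (f := torsMap x f) (g := torsMap x g)
      (fun a b h => Subtype.ext (hf (congrArg Subtype.val h))) hfg' hg'
    have : Injective (ModuleCat.of R J) := Module.injective_object_of_injective_module (inj := hJ) R J
    have : Injective (ModuleCat.of (R ⧸ Ideal.span {x}) ↥(tors x J)) :=
      Module.injective_object_of_injective_module (inj := injective_tors hJ) _ _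
    refine (subsingleton_ext_one_iff hS (ModuleCat.of R N)).trans
      (Iff.trans ?_ (subsingleton_ext_one_iff hS' (ModuleCat.of (R ⧸ Ideal.span {x}) N)).symm)
    have hkill : ∀ m : N, x • m = 0 := fun m => by
      rw [← algebraMap_smul (R ⧸ Ideal.span {x}) x m, Ideal.Quotient.algebraMap_eq,
        Ideal.Quotient.eq_zero_iff_mem.2 (Ideal.mem_span_singleton_self x), zero_smul]
    constructor
    · intro h φ
      obtain ⟨ψ, hψ⟩ := h (ModuleCat.ofHom
        ((Submodule.subtype _) ∘ₗ φ.hom.restrictScalars R))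
      refine ⟨ModuleCat.ofHom (LinearMap.extendScalarsOfSurjective Ideal.Quotient.mk_surjective
        (ψ.hom.codRestrict (tors x J) fun m => mem_tors.2 (by rw [← map_smul, hkill, map_zero]))),
        ModuleCat.hom_ext (LinearMap.ext fun m => Subtype.ext ?_)⟩
      exact LinearMap.congr_fun (congrArg ModuleCat.Hom.hom hψ) m
    · intro h φ
      obtain ⟨ψ, hψ⟩ := h (ModuleCat.ofHom (LinearMap.extendScalarsOfSurjective
        Ideal.Quotient.mk_surjective (φ.hom.codRestrict (tors x (J ⧸ LinearMap.range f))
          fun m => mem_tors.2 (by rw [← map_smul, hkill, map_zero]))))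
      refine ⟨ModuleCat.ofHom ((Submodule.subtype _) ∘ₗ ψ.hom.restrictScalars R),
        ModuleCat.hom_ext (LinearMap.ext fun m => ?_)⟩
      exact congrArg Subtype.val (LinearMap.congr_fun (congrArg ModuleCat.Hom.hom hψ) m)
  | succ n ih =>
    intro C _ _ hdiv N _ _ _ _
    obtain ⟨J, _, _, f, hJ, hf⟩ := InjHull18.exists_injective_embedding R C
    let g := (LinearMap.range f).mkQ
    have hfg : Function.Exact f g := LinearMap.exact_map_mkQ_range f
    have hg : Function.Surjective g := Submodule.mkQ_surjective _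
    have hS := shortExact_of hf hfg hg
    have hfg' : Function.Exact (torsMap x f) (torsMap x g) := fun y => by
      refine ⟨fun h => ?_, ?_⟩
      · obtain ⟨c, hc⟩ := (hfg y.1).1 (congrArg Subtype.val h)
        exact ⟨⟨c, mem_tors.2 (hf (by rw [map_smul, hc, mem_tors.1 y.2, map_zero]))⟩, Subtype.ext hc⟩
      · rintro ⟨c, rfl⟩
        exact Subtype.ext (hfg.apply_apply_eq_zero c.1)
    have hg' : Function.Surjective (torsMap x g) := fun y => by
      obtain ⟨i, hi⟩ := hg y.1
      obtain ⟨c', hc'⟩ := (hfg (x • i)).1 (by rw [map_smul, hi, mem_tors.1 y.2])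
      obtain ⟨c, rfl⟩ := hdiv c'
      refine ⟨⟨i - f c, mem_tors.2 ?_⟩, Subtype.ext ?_⟩
      · rw [smul_sub, ← map_smul]; exact sub_eq_zero.2 hc'.symm
      · show g (i - f c) = y.1
        rw [map_sub, hfg.apply_apply_eq_zero, sub_zero, hi]
    have hS' := shortExact_of (f := torsMap x f) (g := torsMap x g)
      (fun a b h => Subtype.ext (hf (congrArg Subtype.val h))) hfg' hg'
    have : Injective (ModuleCat.of R J) := Module.injective_object_of_injective_module (inj := hJ) R J
    have : Injective (ModuleCat.of (R ⧸ Ideal.span {x}) ↥(tors x J)) :=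
      Module.injective_object_of_injective_module (inj := injective_tors hJ) _ _
    have hdiv' : Function.Surjective fun c : J ⧸ LinearMap.range f => x • c := fun c => by
      obtain ⟨i, rfl⟩ := hg c
      obtain ⟨i', rfl⟩ := smul_surjective_of_injective hx hJ i
      exact ⟨g i', (map_smul g x i').symm⟩
    exact (subsingleton_ext_X₁_iff hS _ n).trans
      ((ih _ hdiv' N).trans (subsingleton_ext_X₁_iff hS' _ n).symm)

/-- Rees: dimension shift modulo a regular element, for vanishing. -/
theorem subsingleton_ext_iff_quotient (hx : IsSMulRegular R x) (M : Type u) [AddCommGroup M]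
    [Module R M] (hxM : IsSMulRegular M x) (n : ℕ) (N : Type u) [AddCommGroup N] [Module R N]
    [Module (R ⧸ Ideal.span {x}) N] [IsScalarTower R (R ⧸ Ideal.span {x}) N] :
    Subsingleton (Ext (ModuleCat.of R N) (ModuleCat.of R M) (n + 2)) ↔
      Subsingleton (Ext (ModuleCat.of (R ⧸ Ideal.span {x}) N)
        (ModuleCat.of (R ⧸ Ideal.span {x}) (M ⧸ Ideal.span {x} • (⊤ : Submodule R M))) (n + 1)) := by
  obtain ⟨J, _, _, f, hJ, hf⟩ := InjHull18.exists_injective_embedding R M
  let g := (LinearMap.range f).mkQ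
  have hfg : Function.Exact f g := LinearMap.exact_map_mkQ_range f
  have hg : Function.Surjective g := Submodule.mkQ_surjective _
  have hS := shortExact_of hf hfg hg
  have : Injective (ModuleCat.of R J) := Module.injective_object_of_injective_module (inj := hJ) R J
  have hdiv : Function.Surjective fun c : J ⧸ LinearMap.range f => x • c := fun c => by
    obtain ⟨i, rfl⟩ := hg c
    obtain ⟨i', rfl⟩ := smul_surjective_of_injective hx hJ i
    exact ⟨g i', (map_smul g x i').symm⟩
  refine (subsingleton_ext_X₁_iff hS (ModuleCat.of R N) n).trans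
    ((subsingleton_ext_iff_tors hx n _ hdiv N).trans ?_)
  let T : Submodule R J := (LinearMap.range f).comap (LinearMap.lsmul R J x)
  let π : T →ₗ[R] tors x (J ⧸ LinearMap.range f) :=
    (g ∘ₗ T.subtype).codRestrict _ fun i => mem_tors.2 (by
      rw [← map_smul]; exact (Submodule.Quotient.mk_eq_zero _).2 i.2)
  have hπ : Function.Surjective π := fun y => by
    obtain ⟨i, hi⟩ := hg y.1
    have h0 : g (x • i) = 0 := by rw [map_smul, hi, mem_tors.1 y.2]
    exact ⟨⟨i, (Submodule.Quotient.mk_eq_zero (LinearMap.range f) (x := x • i)).1 h0⟩, Subtype.ext hi⟩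
  let δ₀ : T →ₗ[R] M ⧸ Ideal.span {x} • (⊤ : Submodule R M) :=
    Submodule.mkQ _ ∘ₗ (LinearEquiv.ofInjective f hf).symm.toLinearMap ∘ₗ
      ((LinearMap.lsmul R J x) ∘ₗ T.subtype).codRestrict (LinearMap.range f) fun i => i.2
  have hδ₀ : ∀ (i : T) (m : M), f m = x • (i : J) →
      δ₀ i = Submodule.Quotient.mk m := fun i m hm => by
    show Submodule.Quotient.mk ((LinearEquiv.ofInjective f hf).symm ⟨x • (i : J), i.2⟩) = _
    congr 1
    rw [LinearEquiv.symm_apply_eq]
    exact Subtype.ext hm.symm
  have hker : LinearMap.ker π ≤ LinearMap.ker δ₀ := fun i hi => by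
    obtain ⟨m, hm⟩ := (hfg i.1).1 (congrArg Subtype.val hi)
    rw [LinearMap.mem_ker, hδ₀ i (x • m) (by rw [map_smul, hm]), Submodule.Quotient.mk_eq_zero]
    exact Submodule.smul_mem_smul (Ideal.mem_span_singleton_self x) Submodule.mem_top
  let δ : tors x (J ⧸ LinearMap.range f) →ₗ[R ⧸ Ideal.span {x}]
      M ⧸ Ideal.span {x} • (⊤ : Submodule R M) :=
    LinearMap.extendScalarsOfSurjective Ideal.Quotient.mk_surjective
      ((LinearMap.ker π).liftQ δ₀ hker ∘ₗ (π.quotKerEquivOfSurjective hπ).symm.toLinearMap)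
  have hδ : ∀ i : T, δ (π i) = δ₀ i := fun i => by
    show (LinearMap.ker π).liftQ δ₀ hker ((π.quotKerEquivOfSurjective hπ).symm (π i)) = δ₀ i
    rw [show (π.quotKerEquivOfSurjective hπ).symm (π i) = Submodule.Quotient.mk i from
      (LinearEquiv.symm_apply_eq _).2 rfl, Submodule.liftQ_apply]
  have hδsurj : Function.Surjective δ := fun q => by
    obtain ⟨m, rfl⟩ := Submodule.mkQ_surjective _ q
    obtain ⟨i, hi⟩ := smul_surjective_of_injective hx hJ (f m)
    have hi' : x • i = f m := hi
    exact ⟨π ⟨i, ⟨m, hi'.symm⟩⟩, (hδ _).trans (hδ₀ _ m hi'.symm)⟩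
  have hinj : Function.Injective (torsMap x g) := fun a b hab => by
    refine Subtype.ext (sub_eq_zero.1 ?_)
    obtain ⟨m, hm⟩ := (hfg (a.1 - b.1)).1
      (by rw [map_sub]; exact sub_eq_zero.2 (congrArg Subtype.val hab))
    have : m = 0 := hxM.right_eq_zero_of_smul (hf (by
      rw [map_smul, hm, smul_sub, mem_tors.1 a.2, mem_tors.1 b.2, sub_zero, map_zero]))
    rw [← hm, this, map_zero]
  have hexact : Function.Exact (torsMap x g) δ := by
    intro y
    obtain ⟨i, rfl⟩ := hπ y
    obtain ⟨m, hm⟩ := i.2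
    rw [hδ, hδ₀ i m hm, Submodule.Quotient.mk_eq_zero, Submodule.ideal_span_singleton_smul]
    constructor
    · intro h
      obtain ⟨m', -, rfl⟩ := (Submodule.mem_smul_pointwise_iff_exists _ _ _).1 h
      refine ⟨⟨i.1 - f m', mem_tors.2 ?_⟩, Subtype.ext ?_⟩
      · rw [smul_sub, ← map_smul f, hm]
        exact sub_self _
      · show g (i.1 - f m') = g i.1
        rw [map_sub, hfg.apply_apply_eq_zero, sub_zero]
    · rintro ⟨a, ha⟩
      obtain ⟨m', hm'⟩ := (hfg (i.1 - a.1)).1
        (by rw [map_sub]; exact sub_eq_zero.2 (congrArg Subtype.val ha).symm)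
      refine (Submodule.mem_smul_pointwise_iff_exists _ _ _).2 ⟨m', trivial, hf ?_⟩
      rw [map_smul, hm', smul_sub, mem_tors.1 a.2, sub_zero, hm]
      rfl
  have hS' := shortExact_of hinj hexact hδsurj
  have : Injective (ModuleCat.of (R ⧸ Ideal.span {x}) ↥(tors x J)) :=
    Module.injective_object_of_injective_module (inj := injective_tors hJ) _ _
  exact subsingleton_ext_X₂_iff hS' _ n

end Groth.Agent.Gor18
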