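import Groth.Prelude.Def_Wider
import Groth.Agent.InjHull18.Basic
import Mathlib.Algebra.Category.ModuleCat.Ext.HasExt
import Mathlib.Algebra.Homology.DerivedCategory.Ext.EnoughInjectives
import Mathlib.Algebra.Homology.ShortComplex.ModuleCat

/-!
# Dimension shifting for Ext of modules
-/

universe u

open CategoryTheory Abelian

namespace Groth.Agent.Gor18

variable {R : Type u} [CommRing R]
variable {A B C : Type u} [AddCommGroup A] [Module R A] [AddCommGroup B] [Module R B]
  [AddCommGroup C] [Module R C] {f : A →ₗ[R] B} {g : B →ₗ[R] C}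

theorem shortExact_of (hf : Function.Injective f) (hfg : Function.Exact f g)
    (hg : Function.Surjective g) :
    (ShortComplex.mk (ModuleCat.ofHom f) (ModuleCat.ofHom g)
      (by ext x; exact hfg.apply_apply_eq_zero x)).ShortExact where
  exact := (ShortComplex.ShortExact.moduleCat_exact_iff_function_exact _).mpr hfg
  mono_f := (ModuleCat.mono_iff_injective _).mpr hf
  epi_g := (ModuleCat.epi_iff_surjective _).mpr hg

variable {S : ShortComplex (ModuleCat.{u} R)} (hS : S.ShortExact) (X : ModuleCat.{u} R)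

include hS

theorem subsingleton_ext_X₁_iff [Injective S.X₂] (n : ℕ) :
    Subsingleton (Ext X S.X₁ (n + 2)) ↔ Subsingleton (Ext X S.X₃ (n + 1)) := by
  constructor <;> intro h
  · refine subsingleton_of_forall_eq 0 fun x => ?_
    obtain ⟨y, rfl⟩ := Ext.covariant_sequence_exact₃ X hS x (rfl : n + 1 + 1 = n + 2) (h.elim _ _)
    rw [Ext.eq_zero_of_injective y, Ext.zero_comp]
  · refine subsingleton_of_forall_eq 0 fun x => ?_
    obtain ⟨y, rfl⟩ := Ext.covariant_sequence_exact₁ X hS x (Ext.eq_zero_of_injective _)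
      (rfl : n + 1 + 1 = n + 2)
    rw [h.elim y 0, Ext.zero_comp]

theorem subsingleton_ext_one_iff [Injective S.X₂] :
    Subsingleton (Ext X S.X₁ 1) ↔ ∀ φ : X ⟶ S.X₃, ∃ ψ : X ⟶ S.X₂, ψ ≫ S.g = φ := by
  constructor
  · intro h φ
    obtain ⟨y, hy⟩ := Ext.covariant_sequence_exact₃ X hS (Ext.mk₀ φ) (rfl : 0 + 1 = 1) (h.elim _ _)
    obtain ⟨ψ, rfl⟩ := (Ext.mk₀_bijective _ _).2 y
    exact ⟨ψ, (Ext.mk₀_bijective _ _).1 (by rw [← Ext.mk₀_comp_mk₀]; exact hy)⟩
  · intro h
    refine subsingleton_of_forall_eq 0 fun x => ?_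
    obtain ⟨y, rfl⟩ := Ext.covariant_sequence_exact₁ X hS x (Ext.eq_zero_of_injective _)
      (rfl : 0 + 1 = 1)
    obtain ⟨φ, rfl⟩ := (Ext.mk₀_bijective _ _).2 y
    obtain ⟨ψ, rfl⟩ := h φ
    rw [← Ext.mk₀_comp_mk₀, Ext.comp_assoc _ _ _ (add_zero 0) (zero_add 1) (by omega),
      hS.comp_extClass, Ext.comp_zero]

theorem subsingleton_ext_X₂_iff [Injective S.X₁] (n : ℕ) :
    Subsingleton (Ext X S.X₂ (n + 1)) ↔ Subsingleton (Ext X S.X₃ (n + 1)) := by
  constructor <;> intro h
  · refine subsingleton_of_forall_eq 0 fun x => ?_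
    obtain ⟨y, rfl⟩ := Ext.covariant_sequence_exact₃ X hS x (rfl : n + 1 + 1 = n + 1 + 1)
      (Ext.eq_zero_of_injective _)
    rw [h.elim y 0, Ext.zero_comp]
  · refine subsingleton_of_forall_eq 0 fun x => ?_
    obtain ⟨y, rfl⟩ := Ext.covariant_sequence_exact₂ X hS x (h.elim _ _)
    rw [Ext.eq_zero_of_injective y, Ext.zero_comp]

omit hS in
theorem subsingleton_ext_congr {X X' Y Y' : ModuleCat.{u} R} (e : X' ≅ X) (e' : Y ≅ Y') {n : ℕ}
    (h : Subsingleton (Ext X Y n)) : Subsingleton (Ext X' Y' n) := by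
  refine subsingleton_of_forall_eq 0 fun c => ?_
  have h0 : ((Ext.mk₀ e.inv).comp c (zero_add n)).comp (Ext.mk₀ e'.inv) (add_zero n) = 0 :=
    h.elim _ _
  have h1 : (Ext.mk₀ e.inv).comp c (zero_add n) = 0 := by
    have := congrArg (fun z => z.comp (Ext.mk₀ e'.hom) (add_zero n)) h0
    simpa using this
  have := congrArg (fun z => (Ext.mk₀ e.hom).comp z (zero_add n)) h1
  simpa using this

end Groth.Agent.Gor18
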