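import Groth.Agent.Gor18.Dim
import Groth.Agent.FlatCrit65.Injective
import Groth.Agent.FlatCrit65.Fibre
import Groth.Agent.InjHull18.Tensor

/-!
# Gorenstein property along flat local homomorphisms
-/

set_option autoImplicit false
set_option linter.unusedSectionVars false
set_option maxHeartbeats 400000

universe u

open IsLocalRing TensorProduct

namespace Groth.Agent.Gor18

variable {A B : Type u} [CommRing A] [CommRing B] [IsLocalRing A] [IsLocalRing B]
  [IsNoetherianRing A] [IsNoetherianRing B] [Algebra A B] [IsLocalHom (algebraMap A B)]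
  [Module.Flat A B]

theorem map_maximalIdeal_le : (maximalIdeal A).map (algebraMap A B) ≤ maximalIdeal B :=
  Ideal.map_le_iff_le_comap.2 fun a ha => map_nonunit (algebraMap A B) a ha

/-- Artinian case: `B` Gorenstein iff both `A` and the fibre are. -/
theorem artinian_flat_iff [IsArtinianRing A] [IsArtinianRing B]
    [IsLocalRing (B ⧸ (maximalIdeal A).map (algebraMap A B))] :
    LocCoh.IsGorensteinLocalRing B ↔
      LocCoh.IsGorensteinLocalRing A ∧
        LocCoh.IsGorensteinLocalRing (B ⧸ (maximalIdeal A).map (algebraMap A B)) := by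
  have hle := map_maximalIdeal_le (A := A) (B := B)
  rw [artinian_gor_iff_simple_socle, artinian_gor_iff_simple_socle, artinian_gor_iff_simple_socle,
    ← Module.length_eq_one_iff, ← Module.length_eq_one_iff, ← Module.length_eq_one_iff]
  -- the `mA B`-torsion of `B`
  let V := LocCoh.torsionBy (maximalIdeal A) A
  let e₁ : (B ⊗[A] ↥V) ≃ₗ[B] ↥(LocCoh.torsionBy ((maximalIdeal A).map (algebraMap A B)) (B ⊗[A] A)) :=
    InjHull18.baseChangeTorsionEquiv (maximalIdeal A)
  let r : (B ⊗[A] A) ≃ₗ[B] B := AlgebraTensorModule.rid A B B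
  let F := B ⧸ (maximalIdeal A).map (algebraMap A B)
  -- `V` is a finite vector space
  let _ : Field (A ⧸ maximalIdeal A) := Ideal.Quotient.field _
  have hfin : Module.Finite (A ⧸ maximalIdeal A) ↥V := InjHull18.finite_socle_of_isArtinian
  let n := Module.finrank (A ⧸ maximalIdeal A) ↥V
  let b := Module.finBasis (A ⧸ maximalIdeal A) ↥V
  let e₂ : ↥V ≃ₗ[A] (Fin n → A ⧸ maximalIdeal A) := b.equivFun.restrictScalars A
  let e₃ : (B ⊗[A] ↥V) ≃ₗ[B] (Fin n → F) :=
    (LinearEquiv.baseChange A B _ _ e₂).trans
      ((TensorProduct.piRight A B B fun _ : Fin n => A ⧸ maximalIdeal A).trans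
        (LinearEquiv.piCongrRight fun _ =>
          (Algebra.TensorProduct.quotIdealMapEquivTensorQuot B (maximalIdeal A)).toLinearEquiv.symm))
  -- socle of `B` = socle of `F^n`
  let E : (Fin n → F) ≃ₗ[B] ↥(LocCoh.torsionBy ((maximalIdeal A).map (algebraMap A B)) (B ⊗[A] A)) :=
    e₃.symm.trans e₁
  have hAlen : Module.length A ↥V = n := by
    rw [Module.length_eq_of_surjective (S := A) (R := A ⧸ maximalIdeal A) Ideal.Quotient.mk_surjective,
      Module.length_eq_rank, ← Module.finrank_eq_rank, map_natCast]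
  have hmem : ∀ y : ↥(LocCoh.torsionBy (maximalIdeal B) B), r.symm y.1 ∈
      LocCoh.torsionBy ((maximalIdeal A).map (algebraMap A B)) (B ⊗[A] A) := fun y =>
    (Submodule.mem_torsionBySet_iff _ _).2 fun c => by
      rw [← map_smul, (Submodule.mem_torsionBySet_iff _ _).1 y.2 ⟨c.1, hle c.2⟩, map_zero]
  let φ : ↥(LocCoh.torsionBy (maximalIdeal B) (Fin n → F)) ≃ₗ[B]
      ↥(LocCoh.torsionBy (maximalIdeal B) B) :=
    { toFun := fun v => ⟨r (E v.1 : B ⊗[A] A), (Submodule.mem_torsionBySet_iff _ _).2 fun c => by
        rw [← map_smul, ← Submodule.coe_smul, ← map_smul,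
          (Submodule.mem_torsionBySet_iff _ _).1 v.2 c]
        simp⟩
      map_add' := fun v w => Subtype.ext (by simp)
      map_smul' := fun c v => Subtype.ext (by simp)
      invFun := fun y => ⟨E.symm ⟨r.symm y.1, hmem y⟩,
        (Submodule.mem_torsionBySet_iff _ _).2 fun c => E.injective (Subtype.ext (by
          rw [map_smul, E.apply_symm_apply, map_zero, Submodule.coe_smul, ZeroMemClass.coe_zero]
          rw [← map_smul, (Submodule.mem_torsionBySet_iff _ _).1 y.2 c, map_zero]))⟩
      left_inv := fun v => Subtype.ext (by simp)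
      right_inv := fun y => Subtype.ext (by simp) }
  let ψ : ↥(LocCoh.torsionBy (maximalIdeal B) (Fin n → F)) ≃ₗ[B]
      (Fin n → ↥(LocCoh.torsionBy (maximalIdeal B) F)) :=
    { toFun := fun v i => ⟨v.1 i, (Submodule.mem_torsionBySet_iff _ _).2 fun c =>
        congrFun ((Submodule.mem_torsionBySet_iff _ _).1 v.2 c) i⟩
      map_add' := fun _ _ => rfl
      map_smul' := fun _ _ => rfl
      invFun := fun v => ⟨fun i => (v i).1, (Submodule.mem_torsionBySet_iff _ _).2 fun c =>
        funext fun i => (Submodule.mem_torsionBySet_iff _ _).1 (v i).2 c⟩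
      left_inv := fun _ => rfl
      right_inv := fun _ => rfl }
  have hBlen : Module.length B ↥(LocCoh.torsionBy (maximalIdeal B) B) =
      n * Module.length B ↥(LocCoh.torsionBy (maximalIdeal B) F) := by
    rw [← φ.length_eq, ψ.length_eq, Module.length_pi, ENat.card_eq_coe_fintype_card,
      Fintype.card_fin]
  have hF : Module.length (B ⧸ (maximalIdeal A).map (algebraMap A B))
      ↥(LocCoh.torsionBy (maximalIdeal (B ⧸ (maximalIdeal A).map (algebraMap A B)))
        (B ⧸ (maximalIdeal A).map (algebraMap A B))) =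
      Module.length B ↥(LocCoh.torsionBy (maximalIdeal B) F) := by
    have hsurj : Function.Surjective (algebraMap B (B ⧸ (maximalIdeal A).map (algebraMap A B))) :=
      Ideal.Quotient.mk_surjective
    rw [← Module.length_eq_of_surjective hsurj]
    have hiff : ∀ c : B, algebraMap B (B ⧸ (maximalIdeal A).map (algebraMap A B)) c ∈
        maximalIdeal _ ↔ c ∈ maximalIdeal B := fun c => by
      have : IsLocalHom (algebraMap B (B ⧸ (maximalIdeal A).map (algebraMap A B))) :=
        IsLocalHom.of_surjective _ hsurj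
      exact ⟨fun h => fun hu => h (hu.map _), fun h => map_nonunit _ c h⟩
    refine LinearEquiv.length_eq
      { toFun := fun y => ⟨y.1, (Submodule.mem_torsionBySet_iff _ _).2 fun c => by
          have h1 := (Submodule.mem_torsionBySet_iff _ _).1 y.2 ⟨_, (hiff c.1).2 c.2⟩
          rwa [algebraMap_smul] at h1⟩
        map_add' := fun _ _ => rfl
        map_smul' := fun _ _ => rfl
        invFun := fun y => ⟨y.1, (Submodule.mem_torsionBySet_iff _ _).2 fun ⟨c, hc⟩ => by
          obtain ⟨c, rfl⟩ := hsurj c
          show algebraMap B F c • y.1 = 0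
          rw [algebraMap_smul]
          exact (Submodule.mem_torsionBySet_iff _ _).1 y.2 ⟨c, (hiff c).1 hc⟩⟩
        left_inv := fun _ => rfl
        right_inv := fun _ => rfl }
  rw [hF, hAlen, hBlen]
  exact mul_eq_one

end Groth.Agent.Gor18
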