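import Groth.Agent.Gor18.LocCohTop
import Groth.Agent.Gor18.GlobalDim
import Groth.Agent.Gor18.LCI
import Groth.Agent.LC15.Dim
import Groth.Agent.LC15.ExtDepth
import Groth.Agent.LC15.NonVanish

/-!
# Local cohomology of Gorenstein local rings
-/

set_option autoImplicit false
set_option linter.unusedSectionVars false
set_option linter.overlappingInstances false

universe u

open CategoryTheory Abelian IsLocalRing RingTheory.Sequence

namespace Groth.Agent.Gor18

variable {A : Type u} [CommRing A]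

theorem smul_top_eq (J : Ideal A) : J • (⊤ : Submodule A A) = J := by
  rw [smul_eq_mul, Ideal.mul_top]

variable [IsLocalRing A]

theorem map_maximalIdeal_quotient {J : Ideal A} (hJ : J ≤ maximalIdeal A)
    [IsLocalRing (A ⧸ J)] :
    (maximalIdeal A).map (Ideal.Quotient.mk J) = maximalIdeal (A ⧸ J) := by
  refine IsLocalRing.eq_maximalIdeal
    ((Ideal.map_eq_top_or_isMaximal_of_surjective _ Ideal.Quotient.mk_surjective
      (maximalIdeal.isMaximal A)).resolve_left fun h => ?_)
  have := congrArg (Ideal.comap (Ideal.Quotient.mk J)) h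
  rw [Ideal.comap_map_of_surjective _ Ideal.Quotient.mk_surjective, ← RingHom.ker_eq_comap_bot,
    Ideal.mk_ker, sup_eq_left.2 hJ, Ideal.comap_top] at this
  exact (maximalIdeal.isMaximal A).ne_top this

theorem mem_socle_quotient {J : Ideal A} (hJ : J ≤ maximalIdeal A) [IsLocalRing (A ⧸ J)]
    (y : A ⧸ J) :
    y ∈ LocCoh.torsionBy (maximalIdeal A) (A ⧸ J) ↔
      y ∈ LocCoh.torsionBy (maximalIdeal (A ⧸ J)) (A ⧸ J) := by
  simp only [Submodule.mem_torsionBySet_iff, Subtype.forall, SetLike.mem_coe,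
    ← map_maximalIdeal_quotient hJ, Ideal.mem_map_iff_of_surjective _ Ideal.Quotient.mk_surjective,
    forall_exists_index, and_imp, forall_apply_eq_imp_iff₂]
  exact forall₂_congr fun a _ => by rw [← Ideal.Quotient.algebraMap_eq, algebraMap_smul]

variable [IsNoetherianRing A]

theorem ofList_le_maximalIdeal {rs : List A} (hm : ∀ r ∈ rs, r ∈ maximalIdeal A) :
    Ideal.ofList rs ≤ maximalIdeal A := Ideal.span_le.2 hm

theorem isRegular_of_mem_maximal {rs : List A} (hm : ∀ r ∈ rs, r ∈ maximalIdeal A)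
    (hr : IsWeaklyRegular A rs) : IsRegular A rs :=
  ⟨hr, fun h => (maximalIdeal.isMaximal A).ne_top
    (top_le_iff.1 (h.le.trans ((smul_top_eq _).le.trans (ofList_le_maximalIdeal hm))))⟩

theorem krullDimLE_zero_quotient {d : ℕ} (hd : ringKrullDim A = d) {rs : List A}
    (hlen : rs.length = d) (hm : ∀ r ∈ rs, r ∈ maximalIdeal A) (hr : IsWeaklyRegular A rs) :
    ringKrullDim (A ⧸ Ideal.ofList rs) = 0 := by
  have h := ringKrullDim_add_length_eq_ringKrullDim_of_isRegular rs
    (isRegular_of_mem_maximal hm hr)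
  rw [hlen, hd] at h
  exact natCast_cancel h
where
  natCast_cancel {a : WithBot ℕ∞} {n : ℕ}
      (h : a + n = n) : a = 0 := by
    induction a with
    | bot => simp at h
    | coe a =>
      induction a with
      | top =>
        rw [← WithBot.coe_natCast, ← WithBot.coe_add, top_add, WithBot.coe_inj] at h
        exact absurd h.symm (ENat.natCast_ne_top n)
      | coe a => norm_cast at h ⊢; omega

/-- A Noetherian local ring of dimension zero is power torsion over its maximal ideal. -/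
theorem isPowerTorsion_quotient {J : Ideal A} (hJ : J ≤ maximalIdeal A)
    (h : ringKrullDim (A ⧸ J) = 0) : LocCoh.IsPowerTorsion (maximalIdeal A) (A ⧸ J) := by
  have : Nontrivial (A ⧸ J) := Ideal.Quotient.nontrivial_iff.2 fun e =>
    (maximalIdeal.isMaximal A).ne_top (top_le_iff.1 (e ▸ hJ))
  have : IsLocalRing (A ⧸ J) := IsLocalRing.of_surjective' _ Ideal.Quotient.mk_surjective
  have : Ring.KrullDimLE 0 (A ⧸ J) := Ring.krullDimLE_iff.2 h.le
  have : IsArtinianRing (A ⧸ J) := isArtinianRing_iff_krullDimLE_zero.2 this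
  intro y
  obtain ⟨n, hn⟩ := (isArtinianRing_iff_isNilpotent_maximalIdeal (A ⧸ J)).1 inferInstance
  refine ⟨n, fun a ha => ?_⟩
  have : Ideal.Quotient.mk J a ∈ maximalIdeal (A ⧸ J) ^ n := by
    rw [← map_maximalIdeal_quotient hJ, ← Ideal.map_pow]
    exact Ideal.mem_map_of_mem _ ha
  rw [hn, Ideal.zero_eq_bot, Submodule.mem_bot] at this
  rw [← algebraMap_smul (A ⧸ J) a y, Ideal.Quotient.algebraMap_eq, this, zero_smul]

/-- The isomorphism `A/(rs) ≅ H^d_m(A)[rs]`. -/
theorem nonempty_quotient_equiv_H {d : ℕ} (hd : ringKrullDim A = d) {rs : List A}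
    (hlen : rs.length = d) (hm : ∀ r ∈ rs, r ∈ maximalIdeal A) (hr : IsWeaklyRegular A rs) :
    Nonempty ((A ⧸ Ideal.ofList rs) ≃ₗ[A] LocCoh.torsionBy (Ideal.ofList rs)
      (LocCoh.H (maximalIdeal A) d A)) := by
  let e₀ := Submodule.quotEquivOfEq _ _ (smul_top_eq (Ideal.ofList rs))
  obtain ⟨e⟩ := nonempty_quotient_equiv_torsion (maximalIdeal A) rs A hm hr fun y => by
    obtain ⟨n, hn⟩ := isPowerTorsion_quotient (ofList_le_maximalIdeal hm)
      (krullDimLE_zero_quotient hd hlen hm hr) (e₀ y)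
    exact ⟨n, fun a ha => e₀.injective (by rw [map_smul, map_zero]; exact hn a ha)⟩
  exact hlen ▸ ⟨e₀.symm.trans e⟩

theorem H_pattern (A : Type u) [CommRing A] [LocCoh.IsGorensteinLocalRing A] (d : ℕ)
    (hd : ringKrullDim A = d) :
    (∀ i : ℕ, i ≠ d → Subsingleton (LocCoh.H (maximalIdeal A) i A)) ∧
      Module.Injective A (LocCoh.H (maximalIdeal A) d A) := by
  obtain ⟨rs, hlen, hm, hr⟩ := exists_regular_sequence_of_gor d A hd
  have hlow : ∀ i < d, Subsingleton (LocCoh.H (maximalIdeal A) i A) := fun i hi =>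
    subsingleton_H_of_weaklyRegular _ rs A hm hr i (hlen ▸ hi)
  refine ⟨fun i hi => ?_, injective_H_top _ d A (injDimLE_of_dim_le hd.le) hlow⟩
  rcases lt_or_gt_of_ne hi with h | h
  · exact hlow i h
  · exact LC15.cdLE_of_ringKrullDim_le _ hd.le A i h

theorem exists_hull_H (A : Type u) [CommRing A] [LocCoh.IsGorensteinLocalRing A] (d : ℕ)
    (hd : ringKrullDim A = d) :
    ∃ g : ResidueField A →ₗ[A] LocCoh.H (maximalIdeal A) d A, InjHull.IsInjectiveHull g := by
  obtain ⟨rs, hlen, hm, hr⟩ := exists_regular_sequence_of_gor d A hd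
  obtain ⟨e⟩ := nonempty_quotient_equiv_H hd hlen hm hr
  have hJ := ofList_le_maximalIdeal hm
  have : Nontrivial (A ⧸ Ideal.ofList rs) := Ideal.Quotient.nontrivial_iff.2 fun h =>
    (maximalIdeal.isMaximal A).ne_top (top_le_iff.1 (h ▸ hJ))
  have : IsLocalRing (A ⧸ Ideal.ofList rs) :=
    IsLocalRing.of_surjective' _ Ideal.Quotient.mk_surjective
  have : LocCoh.IsGorensteinLocalRing (A ⧸ Ideal.ofList rs) :=
    (gor_quotient_ofList_iff _ A rs rfl hm hr).1 inferInstance
  have : Ring.KrullDimLE 0 (A ⧸ Ideal.ofList rs) :=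
    Ring.krullDimLE_iff.2 (krullDimLE_zero_quotient hd hlen hm hr).le
  have : IsArtinianRing (A ⧸ Ideal.ofList rs) := isArtinianRing_iff_krullDimLE_zero.2 this
  have hs := (artinian_gor_iff_simple_socle (A := A ⧸ Ideal.ofList rs)).1 inferInstance
  have := IsSimpleModule.nontrivial (A ⧸ Ideal.ofList rs)
    ↥(LocCoh.torsionBy (maximalIdeal (A ⧸ Ideal.ofList rs)) (A ⧸ Ideal.ofList rs))
  obtain ⟨⟨y, hy⟩, hy0⟩ := exists_ne
    (0 : ↥(LocCoh.torsionBy (maximalIdeal (A ⧸ Ideal.ofList rs)) (A ⧸ Ideal.ofList rs)))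
  let x₀ : LocCoh.H (maximalIdeal A) d A := e y
  have hy' := (mem_socle_quotient hJ y).2 hy
  obtain ⟨g, hg, -⟩ := InjHull18.exists_hull_of_socle (maximalIdeal A) (H_pattern A d hd).2
    (LC15.isPowerTorsion_H _ d) (x₀ := x₀) (fun h => hy0 (Subtype.ext (e.injective
      ((Subtype.ext h).trans e.map_zero.symm))))
    ((Submodule.mem_torsionBySet_iff _ _).2 fun a => by
      show (a : A) • ((e y : LocCoh.H (maximalIdeal A) d A)) = 0
      rw [← Submodule.coe_smul, ← map_smul, (Submodule.mem_torsionBySet_iff _ _).1 hy' a, map_zero,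
        ZeroMemClass.coe_zero])
    fun z hz => by
      have hz' : z ∈ LocCoh.torsionBy (Ideal.ofList rs) (LocCoh.H (maximalIdeal A) d A) :=
        (Submodule.mem_torsionBySet_iff _ _).2 fun a =>
          (Submodule.mem_torsionBySet_iff _ _).1 hz ⟨a, hJ a.2⟩
      obtain ⟨w, hw⟩ := e.surjective ⟨z, hz'⟩
      have hw' : w ∈ LocCoh.torsionBy (maximalIdeal A) (A ⧸ Ideal.ofList rs) :=
        (Submodule.mem_torsionBySet_iff _ _).2 fun a => e.injective <| by
          rw [map_smul, hw, map_zero]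
          exact Subtype.ext ((Submodule.mem_torsionBySet_iff _ _).1 hz a)
      obtain ⟨r, hr'⟩ := Submodule.mem_span_singleton.1
        ((IsSimpleModule.span_singleton_eq_top (A ⧸ Ideal.ofList rs) hy0).ge
          (Submodule.mem_top (x := (⟨w, (mem_socle_quotient hJ w).1 hw'⟩ :
            ↥(LocCoh.torsionBy (maximalIdeal (A ⧸ Ideal.ofList rs)) (A ⧸ Ideal.ofList rs))))))
      obtain ⟨a, rfl⟩ := Ideal.Quotient.mk_surjective r
      refine Submodule.mem_span_singleton.2 ⟨a, ?_⟩
      have h1 : a • y = w := by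
        rw [← algebraMap_smul (A ⧸ Ideal.ofList rs) a y]
        exact congrArg Subtype.val hr'
      show a • ((e y : LocCoh.H (maximalIdeal A) d A)) = z
      rw [← Submodule.coe_smul, ← map_smul, h1, hw]
  exact ⟨g, hg⟩

theorem gor_of_H_pattern {d : ℕ}
    (hvan : ∀ i : ℕ, i ≠ d → Subsingleton (LocCoh.H (maximalIdeal A) i A))
    (hinj : Module.Injective A (LocCoh.H (maximalIdeal A) d A)) :
    LocCoh.IsGorensteinLocalRing A := by
  obtain ⟨n, hn⟩ := gor_cm.exists_ringKrullDim_eq_nat A
  have hnd : n = d := by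
    by_contra h
    have := hvan n h
    have := LC15.nontrivial_H_supportDim (R := A) n (M := A)
      (by rw [Module.supportDim_self_eq_ringKrullDim, hn])
    exact not_subsingleton _ ‹Subsingleton (LocCoh.H (maximalIdeal A) n A)›
  subst hnd
  obtain ⟨rs, hlen, hm, hr⟩ : ∃ rs : List A, rs.length = n ∧ (∀ r ∈ rs, r ∈ maximalIdeal A) ∧
      IsWeaklyRegular A rs := by
    have hdep : (n : ℕ∞) ≤ LocCoh.idealDepth (maximalIdeal A) A :=
      (LC17.natCast_le_idealDepth_iff _ A n).2 fun i hi => hvan i hi.ne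
    rcases Nat.eq_zero_or_pos n with rfl | hpos
    · exact ⟨[], rfl, by simp, IsWeaklyRegular.nil A A⟩
    rw [LocCoh.idealDepth, if_neg (fun h => (maximalIdeal.isMaximal A).ne_top
      ((smul_top_eq _).symm.trans h))] at hdep
    obtain ⟨rs, hrs, hlt⟩ : ∃ rs : List A, (IsWeaklyRegular A rs ∧ ∀ r ∈ rs, r ∈ maximalIdeal A) ∧
        n ≤ rs.length := by
      by_contra h
      push Not at h
      have : (n : ℕ∞) ≤ (n - 1 : ℕ) := hdep.trans (iSup₂_le fun rs hrs => by
        have := h rs hrs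
        exact_mod_cast (by omega : rs.length ≤ n - 1))
      have : n ≤ n - 1 := by exact_mod_cast this
      omega
    refine ⟨rs.take n, by simp [hlt], fun r hr => hrs.2 r (List.mem_of_mem_take hr), ?_⟩
    have := hrs.1
    rw [← List.take_append_drop n rs, isWeaklyRegular_append_iff] at this
    exact this.1
  obtain ⟨e⟩ := nonempty_quotient_equiv_H hn hlen hm hr
  have hJ := ofList_le_maximalIdeal hm
  have : Nontrivial (A ⧸ Ideal.ofList rs) := Ideal.Quotient.nontrivial_iff.2 fun h =>
    (maximalIdeal.isMaximal A).ne_top (top_le_iff.1 (h ▸ hJ))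
  have : IsLocalRing (A ⧸ Ideal.ofList rs) :=
    IsLocalRing.of_surjective' _ Ideal.Quotient.mk_surjective
  refine (gor_quotient_ofList_iff _ A rs rfl hm hr).2 (gor_of_injective ?_)
  have hB := InjHull18.injective_torsionBySet (E := LocCoh.H (maximalIdeal A) n A) hinj
    (Ideal.ofList rs)
  exact (Module.Baer.of_equiv (e.extendScalarsOfSurjective Ideal.Quotient.mk_surjective).symm
    (Module.Baer.of_injective hB)).injective

end Groth.Agent.Gor18
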