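import Groth.Agent.Gor18.Local
import Groth.Agent.LC15.Gamma

/-!
# Top local cohomology: injectivity, and its socle along a regular sequence
-/

set_option autoImplicit false
set_option linter.unusedSectionVars false
set_option linter.overlappingInstances false

universe u

open CategoryTheory Abelian RingTheory.Sequence Groth.Agent.LC15
open scoped Pointwise

namespace Groth.Agent.Gor18

variable {R : Type u} [CommRing R] [IsNoetherianRing R] (I : Ideal R)

/-- If `M` has injective dimension at most `d` and no local cohomology below `d`, then `H^d_I(M)`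
is injective. -/
theorem injective_H_top (d : ℕ) : ∀ (M : Type u) [AddCommGroup M] [Module R M],
    HasInjectiveDimensionLE (ModuleCat.of R M) d →
    (∀ i < d, Subsingleton (LocCoh.H I i M)) → Module.Injective R (LocCoh.H I d M) := by
  induction d with
  | zero =>
    intro M _ _ hM _
    have : Injective (ModuleCat.of R M) := injective_iff_hasInjectiveDimensionLT_one.2 hM
    have : Module.Injective R M := Module.injective_module_of_injective_object R M
    have := injective_gamma I M
    exact (Module.Baer.of_equiv (H0equiv I M).symm (Module.Baer.of_injective this)).injective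
  | succ d ih =>
    intro M _ _ hM hlow
    obtain ⟨J, _, _, f, hf, hJ⟩ := exists_injective_embedding (R := R) M
    have : Injective (ModuleCat.of R J) := Module.injective_object_of_injective_module R J
    let g := (LinearMap.range f).mkQ
    have hfg : Function.Exact f g := LinearMap.exact_map_mkQ_range f
    have hg : Function.Surjective g := Submodule.mkQ_surjective _
    have hC : HasInjectiveDimensionLE (ModuleCat.of R (J ⧸ LinearMap.range f)) d :=
      ((shortExact_of hf hfg hg).hasInjectiveDimensionLT_X₃_iff d ‹_›).2 hM
    rcases d with _ | d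
    · have : Injective (ModuleCat.of R (J ⧸ LinearMap.range f)) :=
        injective_iff_hasInjectiveDimensionLT_one.2 hC
      have : Module.Injective R (J ⧸ LinearMap.range f) :=
        Module.injective_module_of_injective_object R _
      have hGJ := injective_gamma I J
      have hGC := injective_gamma I (J ⧸ LinearMap.range f)
      have hb : Module.Injective R (LocCoh.H I 0 J) :=
        (Module.Baer.of_equiv (H0equiv I J).symm (Module.Baer.of_injective hGJ)).injective
      have hc : Module.Injective R (LocCoh.H I 0 (J ⧸ LinearMap.range f)) :=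
        (Module.Baer.of_equiv (H0equiv I _).symm (Module.Baer.of_injective hGC)).injective
      have hinj : Function.Injective (Hmap I 0 g) := by
        refine (injective_iff_map_eq_zero _).2 fun y hy => ?_
        obtain ⟨z, rfl⟩ := (H_exact₂ I 0 hf hfg hg y).1 hy
        have := hlow 0 (by omega)
        rw [Subsingleton.elim z 0, map_zero]
      obtain ⟨r, hr⟩ := hb.out (Hmap I 0 g) hinj LinearMap.id
      let δ := Hδ I 0 hf hfg hg
      have hδ : Function.Surjective δ :=
        Hδ_surjective I 0 hf hfg hg (subsingleton_H_succ_of_injective I 0)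
      let p : LocCoh.H I 0 (J ⧸ LinearMap.range f) →ₗ[R] LocCoh.H I 0 (J ⧸ LinearMap.range f) :=
        LinearMap.id - (Hmap I 0 g) ∘ₗ r
      have hle : LinearMap.ker δ ≤ LinearMap.ker p := fun y hy => by
        obtain ⟨z, rfl⟩ := (H_exact₃ I 0 hf hfg hg y).1 hy
        simp [p, hr z]
      let s : LocCoh.H I 1 M →ₗ[R] LocCoh.H I 0 (J ⧸ LinearMap.range f) :=
        (LinearMap.ker δ).liftQ p hle ∘ₗ (δ.quotKerEquivOfSurjective hδ).symm.toLinearMap
      have hs : ∀ x, δ (s x) = x := fun x => by
        obtain ⟨y, rfl⟩ := hδ x
        have : (δ.quotKerEquivOfSurjective hδ).symm (δ y) = Submodule.Quotient.mk y := by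
          rw [LinearEquiv.symm_apply_eq]; rfl
        show δ (s (δ y)) = δ y
        simp only [s, LinearMap.comp_apply, LinearEquiv.coe_coe, this, Submodule.liftQ_apply]
        simp only [p, LinearMap.sub_apply, LinearMap.id_apply, LinearMap.comp_apply, map_sub]
        rw [(H_exact₃ I 0 hf hfg hg _).2 ⟨_, rfl⟩, sub_zero]
      exact ⟨fun X Y _ _ _ _ i hi h => by
        obtain ⟨k, hk⟩ := hc.out i hi (s ∘ₗ h)
        exact ⟨δ ∘ₗ k, fun x => by simp only [LinearMap.comp_apply, hk, hs]⟩⟩
    · let C := J ⧸ LinearMap.range f
      have hS := shortExact_of (gamma I C).injective_subtype (LinearMap.exact_subtype_mkQ _)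
        (Submodule.mkQ_surjective (gamma I C))
      have hGJ := injective_gamma I J
      have h0J : Function.Bijective (Hmap I 0 g) := by
        refine ⟨(injective_iff_map_eq_zero _).2 fun y hy => ?_, fun y => ?_⟩
        · obtain ⟨z, rfl⟩ := (H_exact₂ I 0 hf hfg hg y).1 hy
          have := hlow 0 (by omega)
          rw [Subsingleton.elim z 0, map_zero]
        · refine (H_exact₃ I 0 hf hfg hg y).1 ?_
          have := hlow 1 (by omega)
          exact Subsingleton.elim _ _
      have hGC : Module.Injective R (gamma I C) :=
        (Module.Baer.of_equiv (((H0equiv I J).symm.trans (LinearEquiv.ofBijective _ h0J)).trans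
          (H0equiv I C)) (Module.Baer.of_injective hGJ)).injective
      have : Injective (ModuleCat.of R (gamma I C)) :=
        Module.injective_object_of_injective_module (inj := hGC) R _
      have hC' : HasInjectiveDimensionLE (ModuleCat.of R (C ⧸ gamma I C)) (d + 1) :=
        hS.hasInjectiveDimensionLT_X₃ (d + 2) hC
          (hasInjectiveDimensionLT_of_ge _ 1 (d + 3) (by omega))
      have hsh : ∀ i, Subsingleton (LocCoh.H I (i + 1) J) := fun i =>
        subsingleton_H_succ_of_injective I i
      have := ih (C ⧸ gamma I C) hC' fun i hi => by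
        rcases i with _ | i
        · exact (subsingleton_H0_iff I _).2 (gamma_quot_gamma I)
        · have := hlow (i + 2) (by omega)
          have h1 : Subsingleton (LocCoh.H I (i + 1) C) :=
            (HδEquiv I (i + 1) hf hfg hg (hsh i) (hsh (i + 1))).toEquiv.subsingleton
          exact (Equiv.ofBijective _ (Hmap_mkQ_gamma_bijective I (M := C) (Nat.succ_pos i))).symm.subsingleton
      exact (Module.Baer.of_equiv ((LinearEquiv.ofBijective _
        (Hmap_mkQ_gamma_bijective I (M := C) (Nat.succ_pos d))).symm.trans
        (HδEquiv I (d + 1) hf hfg hg (hsh d) (hsh (d + 1))))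
        (Module.Baer.of_injective this)).injective

omit [IsNoetherianRing R] in
theorem lsmul_exact (M : Type u) [AddCommGroup M] [Module R M] (x : R) :
    Function.Exact (LinearMap.lsmul R M x) (x • (⊤ : Submodule R M)).mkQ := fun y => by
  simp [Submodule.Quotient.mk_eq_zero, Submodule.mem_smul_pointwise_iff_exists]

/-- Local cohomology vanishes below the length of a regular sequence in `I`. -/
theorem subsingleton_H_of_weaklyRegular : ∀ (l : List R) (M : Type u) [AddCommGroup M]
    [Module R M], (∀ x ∈ l, x ∈ I) → IsWeaklyRegular M l →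
      ∀ i < l.length, Subsingleton (LocCoh.H I i M)
  | [], _, _, _, _, _ => fun i hi => by simp at hi
  | x :: t, M, _, _, hl, hr => by
    obtain ⟨hx, ht⟩ := (isWeaklyRegular_cons_iff M x t).1 hr
    have ih := subsingleton_H_of_weaklyRegular t (QuotSMulTop x M)
      (fun y hy => hl y (List.mem_cons_of_mem _ hy)) ht
    intro i hi
    have hxI := hl x List.mem_cons_self
    have hinj : Function.Injective (Hmap I i (LinearMap.lsmul R M x)) := by
      rcases i with _ | i
      · exact Hmap_zero_injective I hx
      · refine (injective_iff_map_eq_zero _).2 fun y hy => ?_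
        obtain ⟨z, rfl⟩ := (H_exact₁ I i (f := LinearMap.lsmul R M x) hx (lsmul_exact M x)
          (Submodule.mkQ_surjective _) y).1 hy
        have := ih i (by simpa using hi)
        rw [Subsingleton.elim z 0, map_zero]
    refine subsingleton_of_forall_eq 0 fun y => ?_
    obtain ⟨k, hk⟩ := isPowerTorsion_H I i y
    have key : ∀ n : ℕ, x ^ n • y = 0 → y = 0 := by
      intro n
      induction n with
      | zero => simp
      | succ n ihn =>
        intro h
        refine ihn (hinj ?_)
        rw [map_zero, Hmap_lsmul, ← mul_smul, ← pow_succ', h]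
    exact key k (hk _ (Ideal.pow_mem_pow hxI k))

/-- For a regular sequence `l` in `I` with `M/lM` torsion, `M/lM` is the part of `H^{|l|}_I(M)`
killed by `l`. -/
theorem nonempty_quotient_equiv_torsion : ∀ (l : List R) (M : Type u) [AddCommGroup M]
    [Module R M], (∀ x ∈ l, x ∈ I) → IsWeaklyRegular M l →
      LocCoh.IsPowerTorsion I (M ⧸ Ideal.ofList l • (⊤ : Submodule R M)) →
      Nonempty ((M ⧸ Ideal.ofList l • (⊤ : Submodule R M)) ≃ₗ[R]
        LocCoh.torsionBy (Ideal.ofList l) (LocCoh.H I l.length M))
  | [], M, _, _, _, _, hT => by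
    have hbot : Ideal.ofList ([] : List R) • (⊤ : Submodule R M) = ⊥ := by simp
    let e₀ := Submodule.quotEquivOfEqBot _ hbot
    have hg : gamma I M = ⊤ := (gamma_eq_top_iff I).2 fun m => by
      obtain ⟨n, hn⟩ := hT (e₀.symm m)
      exact ⟨n, fun a ha => by simpa using congrArg e₀ (hn a ha)⟩
    exact ⟨e₀.trans ((LinearEquiv.ofTop _ hg).symm.trans ((H0equiv I M).symm.trans
      (LinearEquiv.ofTop (LocCoh.torsionBy (Ideal.ofList []) (LocCoh.H I 0 M)) (by
        refine eq_top_iff.2 fun y _ => (Submodule.mem_torsionBySet_iff _ _).2 fun ⟨a, ha⟩ => ?_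
        rw [Ideal.ofList_nil] at ha
        show a • y = 0; rw [(Submodule.mem_bot R).1 ha, zero_smul])).symm))⟩
  | x :: t, M, _, _, hl, hr, hT => by
    obtain ⟨hx, ht⟩ := (isWeaklyRegular_cons_iff M x t).1 hr
    let q := Submodule.quotOfListConsSMulTopEquivQuotSMulTopInner M x t
    obtain ⟨e⟩ := nonempty_quotient_equiv_torsion t (QuotSMulTop x M)
      (fun y hy => hl y (List.mem_cons_of_mem _ hy)) ht fun z => by
        obtain ⟨n, hn⟩ := hT (q.symm z)
        exact ⟨n, fun a ha => by simpa using congrArg q (hn a ha)⟩
    have hlow := subsingleton_H_of_weaklyRegular I (x :: t) M hl hr t.length (by simp)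
    let δ := Hδ I t.length (f := LinearMap.lsmul R M x) (g := (x • (⊤ : Submodule R M)).mkQ) hx
      (lsmul_exact M x) (Submodule.mkQ_surjective _)
    have hδinj : Function.Injective δ := by
      refine (injective_iff_map_eq_zero _).2 fun y hy => ?_
      obtain ⟨z, rfl⟩ := (H_exact₃ I t.length (f := LinearMap.lsmul R M x) hx (lsmul_exact M x)
        (Submodule.mkQ_surjective _) y).1 hy
      rw [Subsingleton.elim z 0, map_zero]
    have hrange : ∀ y, y ∈ LinearMap.range δ ↔ x • y = 0 := fun y => by
      have h := H_exact₁ I t.length (f := LinearMap.lsmul R M x) hx (lsmul_exact M x)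
        (Submodule.mkQ_surjective _) y
      rw [Hmap_lsmul] at h
      exact ⟨fun hy => h.2 hy, fun hy => h.1 hy⟩
    have hmap : (LocCoh.torsionBy (Ideal.ofList t)
        (LocCoh.H I t.length (QuotSMulTop x M))).map δ =
        LocCoh.torsionBy (Ideal.ofList (x :: t)) (LocCoh.H I (t.length + 1) M) := by
      apply le_antisymm
      · rintro _ ⟨z, hz, rfl⟩
        refine (Submodule.mem_torsionBySet_iff _ _).2 fun ⟨a, ha⟩ => ?_
        rw [Ideal.ofList_cons, SetLike.mem_coe, Submodule.mem_sup] at ha
        obtain ⟨b, hb, c, hc, rfl⟩ := ha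
        obtain ⟨b', rfl⟩ := Ideal.mem_span_singleton'.1 hb
        rw [add_smul, mul_smul, (hrange (δ z)).1 ⟨z, rfl⟩, smul_zero, zero_add, ← map_smul,
          (Submodule.mem_torsionBySet_iff _ _).1 hz ⟨c, hc⟩, map_zero]
      · intro y hy
        have hy' := (Submodule.mem_torsionBySet_iff _ _).1 hy
        obtain ⟨z, rfl⟩ := (hrange y).2 (hy' ⟨x, by
          rw [Ideal.ofList_cons]; exact Ideal.mem_sup_left (Ideal.mem_span_singleton_self x)⟩)
        refine ⟨z, (Submodule.mem_torsionBySet_iff _ _).2 fun ⟨c, hc⟩ => hδinj ?_, rfl⟩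
        rw [map_smul, map_zero]
        exact hy' ⟨c, by rw [Ideal.ofList_cons]; exact Ideal.mem_sup_right hc⟩
    exact ⟨q.trans (e.trans ((Submodule.equivMapOfInjective δ hδinj _).trans
      (LinearEquiv.ofEq _ _ hmap)))⟩

end Groth.Agent.Gor18
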