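import Groth.Agent.TorMod7.Basic
import Groth.Agent.InjHull18.Basic
import Groth.Agent.Gor18.ExtShift
import Mathlib.Algebra.Homology.DerivedCategory.Ext.Linear
import Mathlib.Algebra.Category.ModuleCat.Projective
import Mathlib.RingTheory.Finiteness.Projective

/-!
# `Tor_n(E, G) ≅ Hom(Ext^n(G, A), E)` for injective `E` and finite `G`
-/

set_option autoImplicit false
set_option linter.unusedSectionVars false

universe u

open CategoryTheory Abelian TensorProduct Limits MonoidalCategory

namespace Groth.Agent.Gor18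

variable {A : Type u} [CommRing A] (E : Type u) [AddCommGroup E] [Module A E]

/-- `e ⊗ g ↦ (φ ↦ φ g • e)`. -/
noncomputable def evDual (G : Type u) [AddCommGroup G] [Module A G] :
    E ⊗[A] G →ₗ[A] ((G →ₗ[A] A) →ₗ[A] E) :=
  TensorProduct.lift (LinearMap.mk₂ A
    (fun e g => (LinearMap.id.smulRight e).comp (Module.Dual.eval A G g))
    (fun e e' g => by ext φ; simp)
    (fun c e g => by ext φ; simp [smul_comm c])
    (fun e g g' => by ext φ; simp [add_smul])
    (fun c e g => by ext φ; simp [mul_smul]))

@[simp]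
theorem evDual_tmul {G : Type u} [AddCommGroup G] [Module A G] (e : E) (g : G) (φ : G →ₗ[A] A) :
    evDual E G (e ⊗ₜ g) φ = φ g • e := by simp [evDual]

variable {G K F : Type u} [AddCommGroup G] [Module A G] [AddCommGroup K] [Module A K]
  [AddCommGroup F] [Module A F]

theorem evDual_natural (f : K →ₗ[A] F) (z : E ⊗[A] K) (φ : F →ₗ[A] A) :
    evDual E F (f.lTensor E z) φ = evDual E K z (φ ∘ₗ f) := by
  induction z with
  | zero => simp
  | add x y hx hy => simp [map_add, hx, hy]
  | tmul e k => simp

theorem evDual_bijective_pi (n : ℕ) : Function.Bijective (evDual (A := A) E (Fin n → A)) := by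
  classical
  let δ : Fin n → (Fin n → A) := fun j => Pi.single j 1
  let inv : (((Fin n → A) →ₗ[A] A) →ₗ[A] E) → E ⊗[A] (Fin n → A) := fun ψ =>
    ∑ j, ψ (LinearMap.proj j) ⊗ₜ δ j
  have hsum : ∀ v : Fin n → A, ∑ j, v j • δ j = v := fun v => by
    funext i
    simp [δ, Pi.single_apply]
  have hleft : ∀ z, inv (evDual E _ z) = z := by
    intro z
    induction z with
    | zero => simp [inv]
    | add x y hx hy =>
      simp only [inv, map_add, LinearMap.add_apply, add_tmul, Finset.sum_add_distrib] at hx hy ⊢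
      rw [hx, hy]
    | tmul e v =>
      simp only [inv, evDual_tmul, LinearMap.proj_apply, smul_tmul, ← tmul_sum, hsum]
  have hright : ∀ ψ, evDual E _ (inv ψ) = ψ := by
    intro ψ
    refine LinearMap.ext fun φ => ?_
    simp only [inv, map_sum, LinearMap.sum_apply, evDual_tmul, ← map_smul]
    rw [← map_sum]
    congr 1
    refine LinearMap.ext fun v => ?_
    rw [LinearMap.sum_apply]
    conv_rhs => rw [← hsum v, map_sum]
    simp [mul_comm]
  exact ⟨Function.LeftInverse.injective hleft, Function.RightInverse.surjective hright⟩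

variable [IsNoetherianRing A]

theorem evDual_bijective (hE : Module.Injective A E) [Module.Finite A G] :
    Function.Bijective (evDual (A := A) E G) := by
  obtain ⟨n, p, hp⟩ := Module.Finite.exists_fin' A G
  obtain ⟨m, f, hf⟩ := Module.Finite.exists_fin' A (LinearMap.ker p)
  let f' : (Fin m → A) →ₗ[A] (Fin n → A) := (LinearMap.ker p).subtype ∘ₗ f
  have hexact : Function.Exact f' p := by
    rw [LinearMap.exact_iff, LinearMap.range_comp, LinearMap.range_eq_top.2 hf, Submodule.map_top,
      Submodule.range_subtype]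
  constructor
  · refine (injective_iff_map_eq_zero _).2 fun z hz => ?_
    obtain ⟨w, rfl⟩ := LinearMap.lTensor_surjective E hp z
    have hw : ∀ φ : G →ₗ[A] A, evDual E _ w (φ ∘ₗ p) = 0 := fun φ => by
      rw [← evDual_natural, hz, LinearMap.zero_apply]
    let fd : ((Fin n → A) →ₗ[A] A) →ₗ[A] ((Fin m → A) →ₗ[A] A) := LinearMap.lcomp A A f'
    have hle : LinearMap.ker fd ≤ LinearMap.ker (evDual E _ w) := fun φ hφ => by
      have h0 : φ ∘ₗ f' = 0 := hφ
      have hk : LinearMap.ker p ≤ LinearMap.ker φ := fun v hv => by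
        obtain ⟨u, rfl⟩ := (hexact v).1 hv
        exact LinearMap.congr_fun h0 u
      let φ' : G →ₗ[A] A := (LinearMap.ker p).liftQ φ hk ∘ₗ
        (p.quotKerEquivOfSurjective hp).symm.toLinearMap
      have : φ' ∘ₗ p = φ := LinearMap.ext fun v => by
        have : (p.quotKerEquivOfSurjective hp).symm (p v) = Submodule.Quotient.mk v := by
          rw [LinearEquiv.symm_apply_eq]; rfl
        simp [φ', this]
      exact LinearMap.mem_ker.2 (this ▸ hw φ')
    obtain ⟨ψ, hψ⟩ := hE.out ((LinearMap.ker fd).liftQ fd le_rfl)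
      (LinearMap.ker_eq_bot.1 (Submodule.ker_liftQ_eq_bot _ _ _ le_rfl))
      ((LinearMap.ker fd).liftQ (evDual E _ w) hle)
    obtain ⟨v, hv⟩ := (evDual_bijective_pi E m).2 ψ
    have : f'.lTensor E v = w := (evDual_bijective_pi E n).1 (LinearMap.ext fun φ => by
      rw [evDual_natural, hv]
      exact hψ (Submodule.Quotient.mk φ))
    rw [← this, ← LinearMap.lTensor_comp_apply, hexact.linearMap_comp_eq_zero,
      LinearMap.lTensor_zero, LinearMap.zero_apply]
  · intro ψ
    obtain ⟨χ, hχ⟩ := hE.out (LinearMap.lcomp A A p) (fun a b h => LinearMap.ext fun g => by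
      obtain ⟨v, rfl⟩ := hp g
      exact LinearMap.congr_fun h v) ψ
    obtain ⟨w, hw⟩ := (evDual_bijective_pi E n).2 χ
    exact ⟨p.lTensor E w, LinearMap.ext fun φ => by rw [evDual_natural, hw]; exact hχ φ⟩

omit [IsNoetherianRing A] in
/-- precomposition with an extension class, as a linear map -/
noncomputable def extPre {X Y : ModuleCat.{u} A} {a b c : ℕ} (e : Ext X Y a) (M : ModuleCat.{u} A)
    (h : a + b = c) : Ext Y M b →ₗ[A] Ext X M c where
  toFun x := e.comp x h
  map_add' x y := Ext.comp_add e x y h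
  map_smul' r x := Ext.comp_smul e x h r

/-- `Tor_n(E, G) ≅ Hom(Ext^n(G, A), E)`. -/
theorem nonempty_tor_iso_hom_ext (hE : Module.Injective A E) (n : ℕ) :
    ∀ (G : Type u) [AddCommGroup G] [Module A G] [Module.Finite A G],
      Nonempty (((((Tor (ModuleCat.{u} A) n).obj (ModuleCat.of A E)).obj (ModuleCat.of A G)) :
        Type u) ≃ₗ[A] (Ext (ModuleCat.of A G) (ModuleCat.of A A) n →ₗ[A] E)) := by
  let T := (tensoringLeft (ModuleCat.{u} A)).obj (ModuleCat.of A E)
  induction n with
  | zero =>
    intro G _ _ _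
    let e1 : (((T.leftDerived 0).obj (ModuleCat.of A G)) : Type u) ≃ₗ[A] E ⊗[A] G :=
      (T.leftDerivedZeroIsoSelf.app (ModuleCat.of A G)).toLinearEquiv
    exact ⟨e1.trans ((LinearEquiv.ofBijective _ (evDual_bijective E hE)).trans
      (LinearEquiv.congrLeft E A
        (Ext.linearEquiv₀.trans ModuleCat.homLinearEquiv).symm))⟩
  | succ n ih =>
    intro G _ _ _
    obtain ⟨r, p, hp⟩ := Module.Finite.exists_fin' A G
    let S := TorMod7.sesOfSurjective p hp
    have hF : Projective S.1.X₂ :=
      (IsProjective.iff_projective (R := A) (P := Fin r → A)).1 inferInstance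
    let δE : Ext S.1.X₁ (ModuleCat.of A A) n →ₗ[A] Ext S.1.X₃ (ModuleCat.of A A) (n + 1) :=
      extPre S.2.extClass _ (by omega : 1 + n = n + 1)
    have hδE : Function.Surjective δE := fun x =>
      Ext.contravariant_sequence_exact₃ S.2 _ x
        (Ext.eq_zero_of_projective _) (by omega)
    let δT := TorMod7.leftDerivedδ T S n
    have hmono : Mono δT := (TorMod7.exact₃ T S n).mono_g
      ((T.isZero_leftDerived_obj_projective_succ n S.1.X₂).eq_of_src _ _)
    rcases n with _ | n
    · let f : LinearMap.ker p →ₗ[A] (Fin r → A) := (LinearMap.ker p).subtype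
      let e₁ : (((T.leftDerived 0).obj S.1.X₁) : Type u) ≃ₗ[A] E ⊗[A] LinearMap.ker p :=
        (T.leftDerivedZeroIsoSelf.app S.1.X₁).toLinearEquiv
      let d : (((T.leftDerived 1).obj S.1.X₃) : Type u) →ₗ[A] E ⊗[A] LinearMap.ker p :=
        e₁.toLinearMap ∘ₗ δT.hom
      have hd : Function.Injective d :=
        e₁.injective.comp ((ModuleCat.mono_iff_injective _).1 hmono)
      have hnat : ∀ z, (T.leftDerivedZeroIsoSelf.app S.1.X₂).hom.hom
          (((T.leftDerived 0).map S.1.f).hom z) = f.lTensor E (e₁ z) := fun z =>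
        ConcreteCategory.congr_hom (T.leftDerivedZeroIsoSelf.hom.naturality S.1.f) z
      have hrange : LinearMap.range d = LinearMap.ker (f.lTensor E) := by
        have hex := (ShortComplex.moduleCat_exact_iff_range_eq_ker _).1 (TorMod7.exact₁ T S 0)
        ext y
        simp only [d, LinearMap.range_comp, LinearMap.mem_ker]
        rw [Submodule.mem_map]
        constructor
        · rintro ⟨z, hz, rfl⟩
          have : ((T.leftDerived 0).map S.1.f).hom z = 0 :=
            LinearMap.mem_ker.1 (hex.le hz)
          exact (hnat z).symm.trans ((congrArg _ this).trans (map_zero _))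
        · intro hy
          refine ⟨e₁.symm y, hex.ge (LinearMap.mem_ker.2 ?_), e₁.apply_symm_apply y⟩
          apply (T.leftDerivedZeroIsoSelf.app S.1.X₂).toLinearEquiv.injective
          rw [map_zero]
          exact (hnat _).trans ((congrArg _ (e₁.apply_symm_apply y)).trans hy)
      let q : (LinearMap.ker p →ₗ[A] A) ≃ₗ[A] Ext S.1.X₁ (ModuleCat.of A A) 0 :=
        (Ext.linearEquiv₀.trans ModuleCat.homLinearEquiv).symm
      let c := δE ∘ₗ q.toLinearMap
      have hc : Function.Surjective c := hδE.comp q.surjective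
      have hker : LinearMap.ker c = LinearMap.range (LinearMap.lcomp A A f) := by
        ext φ
        constructor
        · intro hφ
          obtain ⟨x, hx⟩ := Ext.contravariant_sequence_exact₁ S.2 _ (q φ) (by omega : 1 + 0 = 0 + 1) hφ
          obtain ⟨χ, rfl⟩ := (Ext.mk₀_bijective _ _).2 x
          rw [Ext.mk₀_comp_mk₀] at hx
          exact ⟨χ.hom, congrArg ModuleCat.Hom.hom ((Ext.mk₀_bijective _ _).1 (hx.trans
            (show q φ = Ext.mk₀ (ModuleCat.ofHom φ) from rfl)))⟩
        · rintro ⟨χ, rfl⟩
          let χ' : S.1.X₂ ⟶ ModuleCat.of A A := ModuleCat.ofHom χ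
          have h := (Ext.mk₀_comp_mk₀ S.1.f χ')
          show S.2.extClass.comp (Ext.mk₀ (S.1.f ≫ χ')) rfl = 0
          exact (congrArg (fun x => S.2.extClass.comp x rfl) h.symm).trans
            (S.2.extClass_comp_assoc _)
      let P : (Ext S.1.X₃ (ModuleCat.of A A) 1 →ₗ[A] E) →ₗ[A]
          ((LinearMap.ker p →ₗ[A] A) →ₗ[A] E) := LinearMap.lcomp A E c
      have hP : Function.Injective P := fun a b h => LinearMap.ext fun x => by
        obtain ⟨φ, rfl⟩ := hc x
        exact LinearMap.congr_fun h φ
      have hmap : (LinearMap.ker (f.lTensor E)).map (evDual E (LinearMap.ker p)) =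
          LinearMap.range P := by
        ext ψ
        constructor
        · rintro ⟨z, hz, rfl⟩
          have hz' : f.lTensor E z = 0 := hz
          have hle : LinearMap.ker c ≤ LinearMap.ker (evDual E _ z) := fun φ hφ => by
            obtain ⟨χ, rfl⟩ := hker.le hφ
            show evDual E _ z (χ ∘ₗ f) = 0
            rw [← evDual_natural, hz', map_zero, LinearMap.zero_apply]
          refine ⟨(LinearMap.ker c).liftQ _ hle ∘ₗ
            (c.quotKerEquivOfSurjective hc).symm.toLinearMap, LinearMap.ext fun φ => ?_⟩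
          have : (c.quotKerEquivOfSurjective hc).symm (c φ) = Submodule.Quotient.mk φ := by
            rw [LinearEquiv.symm_apply_eq]; rfl
          show (LinearMap.ker c).liftQ _ hle ((c.quotKerEquivOfSurjective hc).symm (c φ)) = _
          rw [this, Submodule.liftQ_apply]
        · rintro ⟨χ, rfl⟩
          obtain ⟨z, hz⟩ := (evDual_bijective E hE).2 (χ ∘ₗ c)
          refine ⟨z, (evDual_bijective E hE).1 (LinearMap.ext fun φ => ?_), hz⟩
          rw [evDual_natural, hz, map_zero, LinearMap.zero_apply, LinearMap.comp_apply,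
            LinearMap.mem_ker.1 (hker.ge ⟨φ, rfl⟩ : φ ∘ₗ f ∈ LinearMap.ker c), map_zero]
      exact ⟨(LinearEquiv.ofInjective d hd).trans ((LinearEquiv.ofEq _ _ hrange).trans
        ((Submodule.equivMapOfInjective _ (evDual_bijective E hE).1 _).trans
          ((LinearEquiv.ofEq _ _ hmap).trans (LinearEquiv.ofInjective P hP).symm)))⟩
    · have hepi : Epi δT := (TorMod7.exact₁ T S (n + 1)).epi_f
        ((T.isZero_leftDerived_obj_projective_succ n S.1.X₂).eq_of_tgt _ _)
      have hiso : IsIso δT := isIso_of_mono_of_epi _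
      have hinj : Function.Injective δE := (injective_iff_map_eq_zero _).2 fun x hx => by
        obtain ⟨y, rfl⟩ := Ext.contravariant_sequence_exact₁ S.2 _ x (by omega : 1 + (n + 1) = n + 1 + 1) hx
        rw [Ext.eq_zero_of_projective y, Ext.comp_zero]
      obtain ⟨e⟩ := ih (LinearMap.ker p)
      exact ⟨(asIso δT).toLinearEquiv.trans
        (e.trans (LinearEquiv.congrLeft E A (LinearEquiv.ofBijective δE ⟨hinj, hδE⟩)))⟩

end Groth.Agent.Gor18
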