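import Groth.Agent.Gor18.LocCohGor
import Groth.Agent.Gor18.TorExtDual
import Groth.Agent.LC15.DepthSeq

/-!
# `Tor(E, k)` over a Gorenstein local ring
-/

set_option autoImplicit false
set_option linter.unusedSectionVars false
set_option linter.overlappingInstances false

universe u

open CategoryTheory Abelian IsLocalRing RingTheory.Sequence
open scoped Pointwise

namespace Groth.Agent.Gor18

variable {R : Type u} [CommRing R] [IsLocalRing R]

theorem residue_kill {x : R} (hx : x ∈ maximalIdeal R) (z : ResidueField R) : x • z = 0 := by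
  obtain ⟨r, rfl⟩ := residue_surjective z
  rw [Algebra.smul_def, ResidueField.algebraMap_eq, (residue_eq_zero_iff x).2 hx, zero_mul]

/-- `Hom(k, M/lM) ≅ Ext^{|l|}(k, M)` for a regular sequence `l`. -/
theorem nonempty_hom_equiv_ext : ∀ (l : List R) (M : Type u) [AddCommGroup M] [Module R M],
    (∀ x ∈ l, x ∈ maximalIdeal R) → IsWeaklyRegular M l →
      Nonempty ((ResidueField R →ₗ[R] M ⧸ Ideal.ofList l • (⊤ : Submodule R M)) ≃ₗ[R]
        Ext (ModuleCat.of R (ResidueField R)) (ModuleCat.of R M) l.length)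
  | [], M, _, _, _, _ => by
    have hbot : Ideal.ofList ([] : List R) • (⊤ : Submodule R M) = ⊥ := by simp
    exact ⟨((LinearEquiv.refl R (ResidueField R)).arrowCongr (Submodule.quotEquivOfEqBot _ hbot)).trans
      (Ext.linearEquiv₀.trans ModuleCat.homLinearEquiv).symm⟩
  | x :: t, M, _, _, hl, hr => by
    obtain ⟨hx, ht⟩ := (isWeaklyRegular_cons_iff M x t).1 hr
    obtain ⟨e⟩ := nonempty_hom_equiv_ext t (QuotSMulTop x M)
      (fun y hy => hl y (List.mem_cons_of_mem _ hy)) ht
    have hxm := hl x List.mem_cons_self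
    have hex : Function.Exact (LinearMap.lsmul R M x) (x • (⊤ : Submodule R M)).mkQ := fun y => by
      simp [Submodule.Quotient.mk_eq_zero, Submodule.mem_smul_pointwise_iff_exists]
    let k := ModuleCat.of R (ResidueField R)
    have hN : (maximalIdeal R ^ 1) • (⊤ : Submodule R (ResidueField R)) = ⊥ := by
      rw [pow_one, eq_bot_iff, Submodule.smul_le]
      exact fun a ha z _ => (Submodule.mem_bot R).2 (residue_kill ha z)
    have h0 : Subsingleton (Ext k (ModuleCat.of R M) t.length) :=
      LC15.subsingleton_ext_of_weaklyRegular (I := maximalIdeal R) hN (x :: t) M hr hl t.length (by simp)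
    let δ := LC15.extδ t.length (f := LinearMap.lsmul R M x) (g := (x • (⊤ : Submodule R M)).mkQ)
      hx hex (Submodule.mkQ_surjective _) k
    have hinj : Function.Injective δ := (injective_iff_map_eq_zero _).2 fun y hy => by
      obtain ⟨z, rfl⟩ := Ext.covariant_sequence_exact₃ k
        (LC15.seqSC_shortExact (f := LinearMap.lsmul R M x) hx hex (Submodule.mkQ_surjective _))
        y rfl hy
      rw [h0.elim z 0, Ext.zero_comp]
    have hsurj : Function.Surjective δ := fun y =>
      Ext.covariant_sequence_exact₁ k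
        (LC15.seqSC_shortExact (f := LinearMap.lsmul R M x) hx hex (Submodule.mkQ_surjective _)) y
        (by
          show y.comp (Ext.mk₀ (ModuleCat.ofHom (LinearMap.lsmul R M x))) (add_zero _) = 0
          rw [show ModuleCat.ofHom (LinearMap.lsmul R M x) = x • 𝟙 (ModuleCat.of R M) from rfl,
            Ext.mk₀_smul, Ext.comp_smul, Ext.comp_mk₀_id]
          exact smul_ext_eq_zero (fun z => residue_kill hxm z) y) rfl
    exact ⟨((LinearEquiv.refl R (ResidueField R)).arrowCongr
      (Submodule.quotOfListConsSMulTopEquivQuotSMulTopInner M x t)).trans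
        (e.trans (LinearEquiv.ofBijective δ ⟨hinj, hsurj⟩))⟩

variable [IsNoetherianRing R]

theorem nonempty_ext_dim_equiv_residue (A : Type u) [CommRing A] [LocCoh.IsGorensteinLocalRing A]
    (d : ℕ) (hd : ringKrullDim A = d) :
    Nonempty (Ext (ModuleCat.of A (ResidueField A)) (ModuleCat.of A A) d ≃ₗ[A] ResidueField A) := by
  obtain ⟨rs, hlen, hm, hr⟩ := exists_regular_sequence_of_gor d A hd
  obtain ⟨e⟩ := nonempty_hom_equiv_ext rs A hm hr
  obtain ⟨e'⟩ := nonempty_quotient_equiv_H hd hlen hm hr
  obtain ⟨g, hg⟩ := exists_hull_H A d hd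
  have h1 : IsSimpleModule A (ResidueField A →ₗ[A] LocCoh.H (maximalIdeal A) d A) :=
    InjHull18.isSimpleModule_linearMap (m := maximalIdeal A) (f := g) hg.toIsEssentialInj
  let J := LocCoh.torsionBy (Ideal.ofList rs) (LocCoh.H (maximalIdeal A) d A)
  let P : (ResidueField A →ₗ[A] J) →ₗ[A] (ResidueField A →ₗ[A] LocCoh.H (maximalIdeal A) d A) :=
    LinearMap.llcomp A _ _ _ J.subtype
  have hP : Function.Bijective P := by
    refine ⟨fun a b h => LinearMap.ext fun z => Subtype.ext (LinearMap.congr_fun h z), fun φ => ?_⟩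
    refine ⟨φ.codRestrict J fun z => (Submodule.mem_torsionBySet_iff _ _).2 fun a => ?_,
      LinearMap.ext fun z => rfl⟩
    rw [← map_smul, residue_kill (ofList_le_maximalIdeal hm a.2), map_zero]
  let T : Ext (ModuleCat.of A (ResidueField A)) (ModuleCat.of A A) rs.length ≃ₗ[A]
      (ResidueField A →ₗ[A] LocCoh.H (maximalIdeal A) d A) :=
    e.symm.trans (((LinearEquiv.refl A (ResidueField A)).arrowCongr
      ((Submodule.quotEquivOfEq _ _ (smul_top_eq (Ideal.ofList rs))).trans e')).trans
        (LinearEquiv.ofBijective P hP))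
  obtain ⟨J', hJ', ⟨s⟩⟩ := isSimpleModule_iff_quot_maximal.1 h1
  obtain rfl := IsLocalRing.eq_maximalIdeal hJ'
  subst hlen
  exact ⟨T.trans s⟩

theorem tor_injectiveHull_residueField (A : Type u) [CommRing A] [LocCoh.IsGorensteinLocalRing A]
    (d : ℕ) (hd : ringKrullDim A = d) (E : Type u) [AddCommGroup E] [Module A E]
    (f : ResidueField A →ₗ[A] E) (hf : InjHull.IsInjectiveHull f) :
    (∀ i : ℕ, i ≠ d → Limits.IsZero (((Tor (ModuleCat.{u} A) i).obj (ModuleCat.of A E)).obj
      (ModuleCat.of A (ResidueField A)))) ∧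
    Nonempty ((((Tor (ModuleCat.{u} A) d).obj (ModuleCat.of A E)).obj
      (ModuleCat.of A (ResidueField A))) ≅ ModuleCat.of A (ResidueField A)) := by
  refine ⟨fun i hi => ?_, ?_⟩
  · obtain ⟨e⟩ := nonempty_tor_iso_hom_ext E hf.isInjective i (ResidueField A)
    have := (ext_pattern d A hd i).2 hi
    have : Subsingleton (Ext (ModuleCat.of A (ResidueField A)) (ModuleCat.of A A) i →ₗ[A] E) :=
      ⟨fun a b => LinearMap.ext fun z => by rw [Subsingleton.elim z 0, map_zero, map_zero]⟩
    have := e.toEquiv.subsingleton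
    exact ModuleCat.isZero_of_subsingleton _
  · obtain ⟨e⟩ := nonempty_tor_iso_hom_ext E hf.isInjective d (ResidueField A)
    obtain ⟨v⟩ := nonempty_ext_dim_equiv_residue A d hd
    obtain ⟨J', hJ', ⟨s⟩⟩ := isSimpleModule_iff_quot_maximal.1
      (InjHull18.isSimpleModule_linearMap (m := maximalIdeal A) (f := f) hf.toIsEssentialInj)
    obtain rfl := IsLocalRing.eq_maximalIdeal hJ'
    exact ⟨(e.trans ((LinearEquiv.congrLeft E A v).trans s)).toModuleIso⟩

end Groth.Agent.Gor18
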